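import Cfsg.Agent.H80.TTQuad.Basic

/-!
A set of 3-transpositions that is closed under conjugation by its members, modulo the centre of
the group it generates, is again a class without solvable normal subgroups when its neighbour
sets are reduced.
-/

set_option autoImplicit false
set_option linter.unusedSectionVars false

namespace Cfsg.Agent.H80.TTFischer

open Cfsg
open H76.LocallyS3 (nb cj cj_cj cj_injective commute_cj_iff)
open H80.TTQuad (Cls cj_one cj_inv_cj cj_cj_inv cj_eq_of_commute commute_of_cj_eq)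

universe u

variable {G : Type u} [Group G] {T : Set G}

/-- No solvable normal subgroup of the group generated by `E` contains a product of two different
members of `E`. -/
def Reduced (E : Set G) : Prop :=
  ∀ N : Subgroup G, N ≤ Subgroup.closure E → (∀ g ∈ Subgroup.closure E, ∀ n ∈ N, cj g n ∈ N) →
    Group.IsSolvable ↥N → ∀ a ∈ E, ∀ b ∈ E, a * b ∈ N → a = b

/-- The input of the descent to the group generated by `T`. -/
structure Local (T : Set G) : Prop where
  tt : Cfsg.IsThreeTranspositionSet T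
  nonempty : T.Nonempty
  closed : ∀ a ∈ T, ∀ b ∈ T, cj a b ∈ T
  conj : ∀ a ∈ T, ∀ b ∈ T, ∃ g ∈ Subgroup.closure T, cj g a = b
  reduced : ∀ t ∈ T, Reduced (nb T t)
  has_nb : ∀ t ∈ T, (nb T t).Nonempty
  triangle : ∀ a ∈ T, ∀ b ∈ nb T a, ∃ t ∈ T, a ∈ nb T t ∧ b ∈ nb T t

namespace Local

variable (H : Local T)
include H

theorem closed_closure {g : G} (hg : g ∈ Subgroup.closure T) {t : G} (ht : t ∈ T) : cj g t ∈ T := by
  revert t
  refine Subgroup.closure_induction_left (p := fun g _ => ∀ {t : G}, t ∈ T → cj g t ∈ T)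
    (fun ht => by rwa [cj_one]) (fun a ha y _ ih {t} ht => ?_) (fun a ha y _ ih {t} ht => ?_) hg
  · rw [← cj_cj]; exact H.closed a ha _ (ih ht)
  · rw [H44.tt_inv H.tt ha, ← cj_cj]; exact H.closed a ha _ (ih ht)

/-- A product of two commuting different members lies in no solvable normal subgroup. -/
theorem eq_of_commute {N : Subgroup G}
    (hn : ∀ g ∈ Subgroup.closure T, ∀ n ∈ N, cj g n ∈ N) (hs : Group.IsSolvable ↥N)
    {a b t : G} (htT : t ∈ T) (ha : a ∈ nb T t) (hb : b ∈ nb T t) (h : a * b ∈ N) : a = b := by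
  have hsub : Subgroup.closure (nb T t) ≤ Subgroup.closure T :=
    Subgroup.closure_mono fun z hz => hz.1
  refine H.reduced t htT (N ⊓ Subgroup.closure (nb T t)) inf_le_right (fun g hg n hn' => ?_) ?_
    a ha b hb ⟨h, mul_mem (Subgroup.subset_closure ha) (Subgroup.subset_closure hb)⟩
  · exact ⟨hn g (hsub hg) n hn'.1, Subgroup.mul_mem _ (Subgroup.mul_mem _ hg hn'.2) (Subgroup.inv_mem _ hg)⟩
  · exact Group.isSolvable_of_isSolvable_injective
      (Subgroup.inclusion_injective (inf_le_left : N ⊓ Subgroup.closure (nb T t) ≤ N))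

theorem mul_mem_comm {N : Subgroup G} {a b : G} (ha : a ∈ T) (hb : b ∈ T) (h : a * b ∈ N) :
    b * a ∈ N := by
  have := inv_mem h
  rwa [mul_inv_rev, H44.tt_inv H.tt ha, H44.tt_inv H.tt hb] at this

theorem inj_commute {N : Subgroup G}
    (hn : ∀ g ∈ Subgroup.closure T, ∀ n ∈ N, cj g n ∈ N) (hs : Group.IsSolvable ↥N)
    {a b : G} (ha : a ∈ T) (hb : b ∈ T) (hab : Commute a b) (h : a * b ∈ N) : a = b := by
  by_contra hne
  obtain ⟨t, ht, hat, hbt⟩ := H.triangle a ha b ⟨hb, Ne.symm hne, hab⟩
  exact hne (H.eq_of_commute hn hs ht hat hbt h)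

/-- Members with product in a solvable normal subgroup have the same neighbours. -/
theorem nb_transfer {N : Subgroup G}
    (hn : ∀ g ∈ Subgroup.closure T, ∀ n ∈ N, cj g n ∈ N) (hs : Group.IsSolvable ↥N)
    {a b z : G} (ha : a ∈ T) (hb : b ∈ T) (hab : ¬ Commute a b) (h : a * b ∈ N)
    (hz : z ∈ nb T a) : z ∈ nb T b := by
  refine ⟨hz.1, fun e => hab (e ▸ hz.2.2), ?_⟩
  by_contra hbz
  have hsq : ∀ x ∈ T, x * x = 1 := fun x hx => H44.tt_mul_self H.tt hx
  -- `b z` agrees with `a z` modulo `N`
  have key : (b * z) * (b * z) ∈ N := by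
    have h1 : b * a ∈ N := H.mul_mem_comm ha hb h
    have h2 : cj z (b * a) ∈ N := hn z (Subgroup.subset_closure hz.1) _ h1
    have e : (b * z) * (b * z) = (b * a) * cj (a * z) (b * a) := by
      simp only [cj, mul_inv_rev, H44.tt_inv H.tt ha, H44.tt_inv H.tt hz.1]
      rw [← (hz.2.2).eq]
      simp only [mul_assoc]
      rw [← mul_assoc a a (z * _), hsq a ha, one_mul, ← mul_assoc a a z, hsq a ha, one_mul]
    rw [e]
    exact mul_mem h1 (hn _ (mul_mem (Subgroup.subset_closure ha) (Subgroup.subset_closure hz.1)) _ h1)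
  have h3 : (b * z) ^ 3 = 1 := H44.tt_cube H.tt hb hz.1 fun q => hbz q
  have hbzN : b * z ∈ N := by
    have e : b * z = ((b * z) * (b * z))⁻¹ := by
      rw [eq_inv_iff_mul_eq_one, ← h3]; simp only [pow_succ, pow_zero, one_mul, mul_assoc]
    rw [e]; exact inv_mem key
  have haz : a * z ∈ N := by
    have e : a * z = (a * b) * (b * z) := by
      rw [mul_assoc, ← mul_assoc b b z, hsq b hb, one_mul]
    rw [e]; exact mul_mem h hbzN
  exact hz.2.1 (H.inj_commute hn hs ha hz.1 hz.2.2 haz).symm

/-- A solvable normal subgroup separates the members. -/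
theorem inj {N : Subgroup G}
    (hn : ∀ g ∈ Subgroup.closure T, ∀ n ∈ N, cj g n ∈ N) (hs : Group.IsSolvable ↥N)
    {a b : G} (ha : a ∈ T) (hb : b ∈ T) (h : a * b ∈ N) : a = b := by
  by_cases hab : Commute a b
  · exact H.inj_commute hn hs ha hb hab h
  obtain ⟨t, ht⟩ := H.has_nb a ha
  have htb := H.nb_transfer hn hs ha hb hab h ht
  exact H.eq_of_commute hn hs ht.1 ⟨ha, ht.2.1.symm, ht.2.2.symm⟩
    ⟨hb, htb.2.1.symm, htb.2.2.symm⟩ h

/-- A solvable normal subgroup of the group generated by `T` centralises `T`. -/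
theorem commute_of_mem {N : Subgroup G} (hle : N ≤ Subgroup.closure T)
    (hn : ∀ g ∈ Subgroup.closure T, ∀ n ∈ N, cj g n ∈ N) (hs : Group.IsSolvable ↥N)
    {n : G} (hnN : n ∈ N) {a : G} (ha : a ∈ T) : Commute n a := by
  refine commute_of_cj_eq (H.inj hn hs (H.closed_closure (hle hnN) ha) ha ?_)
  have e : cj n a * a = n * cj a n⁻¹ := by simp only [cj, H44.tt_inv H.tt ha]; group
  rw [e]
  exact mul_mem hnN (hn a (Subgroup.subset_closure ha) _ (inv_mem hnN))

/-- The quotient of the group generated by `T` by its centre. -/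
abbrev Quot (T : Set G) : Type u :=
  ↥(Subgroup.closure T) ⧸ Subgroup.center ↥(Subgroup.closure T)

/-- The image of `T` in that quotient. -/
def image (T : Set G) : Set (Quot T) :=
  (QuotientGroup.mk : ↥(Subgroup.closure T) → _) '' {x : ↥(Subgroup.closure T) | (x : G) ∈ T}

/-- The image of a member. -/
def bar (t : ↥T) : Quot T :=
  QuotientGroup.mk (s := Subgroup.center ↥(Subgroup.closure T)) ⟨t, Subgroup.subset_closure t.2⟩

theorem bar_mem (t : ↥T) : bar t ∈ image T := ⟨_, t.2, rfl⟩

theorem center_normal :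
    ∀ g ∈ Subgroup.closure T, ∀ n ∈ (Subgroup.center ↥(Subgroup.closure T)).map
      (Subgroup.closure T).subtype, cj g n ∈ (Subgroup.center ↥(Subgroup.closure T)).map
      (Subgroup.closure T).subtype := by
  rintro g hg _ ⟨m, hm, rfl⟩
  exact ⟨⟨g, hg⟩ * m * ⟨g, hg⟩⁻¹, Subgroup.Normal.conj_mem inferInstance m hm _, rfl⟩

theorem bar_injective : Function.Injective (bar : ↥T → Quot T) := by
  intro a b h
  have h' := QuotientGroup.eq.1 h
  refine Subtype.ext (H.inj (N := (Subgroup.center ↥(Subgroup.closure T)).map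
    (Subgroup.closure T).subtype) H.center_normal ?_ a.2 b.2 ?_)
  · haveI : Group.IsSolvable ↥(Subgroup.center ↥(Subgroup.closure T)) := by
      open scoped IsMulCommutative in infer_instance
    exact Group.isSolvable_of_surjective
      (f := ((Subgroup.closure T).subtype.subgroupMap _)) (MonoidHom.subgroupMap_surjective _ _)
  · exact ⟨_, h', by simp [H44.tt_inv H.tt a.2]⟩

theorem bar_cj (a b : ↥T) : bar ⟨cj (a : G) b, H.closed a a.2 b b.2⟩ = cj (bar a) (bar b) := rfl

theorem commute_bar (a b : ↥T) : Commute (bar a) (bar b) ↔ Commute (a : G) b := by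
  constructor
  · intro h
    have h' := cj_eq_of_commute h
    rw [← H.bar_cj] at h'
    exact commute_of_cj_eq (congrArg Subtype.val (H.bar_injective h'))
  · intro h
    show bar a * bar b = bar b * bar a
    exact congrArg (QuotientGroup.mk (s := Subgroup.center ↥(Subgroup.closure T))) (Subtype.ext h.eq)

theorem isThreeTranspositionClass_image : Cfsg.IsThreeTranspositionClass (image T) := by
  have hgen : Subgroup.closure {x : ↥(Subgroup.closure T) | (x : G) ∈ T} = ⊤ :=
    Subgroup.closure_closure_coe_preimage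
  refine ⟨⟨?_, ?_⟩, ?_, ?_⟩
  · rintro _ ⟨x, hx, rfl⟩
    refine orderOf_eq_prime ?_ fun e => ?_
    · rw [← QuotientGroup.mk_pow]
      refine congrArg QuotientGroup.mk (Subtype.ext ?_) |>.trans (QuotientGroup.mk_one _)
      simpa [pow_two] using H44.tt_mul_self H.tt hx
    · have hc : x ∈ Subgroup.center ↥(Subgroup.closure T) := (QuotientGroup.eq_one_iff x).1 e
      obtain ⟨z, hz⟩ := H.has_nb x hx
      -- all members are conjugate, so a central one is the only member
      obtain ⟨g, hg, hgz⟩ := H.conj x hx z hz.1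
      refine hz.2.1 ?_
      rw [← hgz]
      refine cj_eq_of_commute ?_
      exact congrArg Subtype.val (Subgroup.mem_center_iff.1 hc ⟨g, hg⟩)
  · rintro _ ⟨x, hx, rfl⟩ _ ⟨y, hy, rfl⟩
    rcases H.tt.2 x hx y hy with h | h
    · left
      rw [← QuotientGroup.mk_mul, ← QuotientGroup.mk_pow]
      exact congrArg QuotientGroup.mk (Subtype.ext (by simpa using h)) |>.trans (QuotientGroup.mk_one _)
    · right
      rw [← QuotientGroup.mk_mul, ← QuotientGroup.mk_pow]
      exact congrArg QuotientGroup.mk (Subtype.ext (by simpa using h)) |>.trans (QuotientGroup.mk_one _)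
  · obtain ⟨a, ha⟩ := H.nonempty
    refine ⟨bar ⟨a, ha⟩, H.bar_mem _, Set.ext fun q => ?_⟩
    rw [conjugatesOf, Set.mem_ofPred_eq, isConj_iff]
    constructor
    · rintro ⟨x, hx, rfl⟩
      obtain ⟨g, hg, hgx⟩ := H.conj a ha x hx
      refine ⟨QuotientGroup.mk ⟨g, hg⟩, ?_⟩
      exact congrArg QuotientGroup.mk (Subtype.ext hgx)
    · rintro ⟨c, rfl⟩
      obtain ⟨g, rfl⟩ := QuotientGroup.mk_surjective c
      exact ⟨g * ⟨a, Subgroup.subset_closure ha⟩ * g⁻¹, H.closed_closure g.2 ha, rfl⟩
  · rw [image, ← QuotientGroup.coe_mk', ← MonoidHom.map_closure, hgen]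
    exact Subgroup.map_top_of_surjective _ (QuotientGroup.mk'_surjective _)

theorem cls_image : Cls (image T) := by
  refine ⟨H.isThreeTranspositionClass_image, fun N hN hs => ?_⟩
  let π := QuotientGroup.mk' (Subgroup.center ↥(Subgroup.closure T))
  let M := N.comap π
  have hM : Group.IsSolvable ↥M := by
    have : Group.IsSolvable ↥π.ker := by
      rw [QuotientGroup.ker_mk']
      open scoped IsMulCommutative in infer_instance
    refine Group.isSolvable_of_ker_le_range
      (Subgroup.inclusion (show π.ker ≤ M from fun x hx => by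
        show π x ∈ N
        rw [MonoidHom.mem_ker.1 hx]; exact one_mem N)) (π.subgroupComap N) ?_
    intro x hx
    exact ⟨⟨x, congrArg Subtype.val (MonoidHom.mem_ker.1 hx)⟩, rfl⟩
  refine le_bot_iff.1 fun q hq => ?_
  obtain ⟨x, rfl⟩ := QuotientGroup.mk_surjective q
  refine Subgroup.mem_bot.2 ((QuotientGroup.eq_one_iff x).2 (Subgroup.mem_center_iff.2 fun g => ?_))
  have hcomm : ∀ t ∈ T, Commute (x : G) t := fun t ht =>
    H.commute_of_mem (N := M.map (Subgroup.closure T).subtype) (Subgroup.map_subtype_le M)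
      (by
        rintro k hk _ ⟨m, hm, rfl⟩
        exact ⟨⟨k, hk⟩ * m * ⟨k, hk⟩⁻¹, Subgroup.Normal.conj_mem (hN.comap π) m hm _, rfl⟩)
      (Group.isSolvable_of_surjective (f := ((Subgroup.closure T).subtype.subgroupMap M))
        (MonoidHom.subgroupMap_surjective _ _))
      ⟨x, hq, rfl⟩ ht
  refine Subtype.ext ?_
  have hle : Subgroup.closure T ≤ Subgroup.centralizer ({(x : G)} : Set G) :=
    (Subgroup.closure_le _).2 fun t ht =>
      Subgroup.mem_centralizer_singleton_iff.2 (hcomm t ht).eq.symm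
  exact Subgroup.mem_centralizer_singleton_iff.1 (hle g.2)

end Local

end Cfsg.Agent.H80.TTFischer
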