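import Cfsg.Agent.H80.TTFischer.Step
import Cfsg.Agent.H97.Refl3.Main

/-!
Branch of residues of unitary type in Fischer's theorem, without hypotheses on other branches.
-/

set_option autoImplicit false
set_option linter.unusedSectionVars false

namespace Cfsg.Agent.H80.TTFischer

open H80.TTQuad (Cls)
open H7Fischer (Central Conn Triangle IsUnit IsM22' res)

universe u

theorem orthStep : OrthStep.{u} :=
  fun H hC hconn _ _ hd _ hn _ _ hR => H97.Refl3.orth_three_step H hC hconn hd hn hR

/-- **Residue `U_n(2)`**: only `n = 6`, and the class is of type M(22). -/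
theorem unitary_step {G : Type u} [Group G] [Finite G] {D : Set G} (H : Cls D) (hC : Central D)
    (hconn : Conn D) (hnT : ¬ Triangle D) {d : G} (hd : d ∈ D) {n : ℕ} (hn : 5 ≤ n)
    (hR : IsUnit (H7Fischer.res D d) n) : n = 6 ∧ IsM22' D :=
  unitary_step_of orthStep H hC hconn hnT hd hn hR

end Cfsg.Agent.H80.TTFischer
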