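import Cfsg.Agent.H80.TTPolar.Unit
import Cfsg.Agent.H7Thick.Model
import Cfsg.Agent.H7Fischer.Defs

/-!
The class version of the five-point polar case: the members are the unitary transvections.
-/

set_option autoImplicit false
set_option linter.unusedSectionVars false

namespace Cfsg.Agent.H80.TTFischer

open Cfsg
open H76.LocallyS3 (cj)
open H7Thick.Model (tvq cls_tvq hypUnique_tvq)
open H7Fischer (IsUnit IsoTo psuTv)
open H80.TTPolar (Fq fq_card)

universe u

variable {G : Type u} [Group G] [Finite G] {D : Set G}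

/-- Lines of five points: a projective special unitary group with its transvections. -/
theorem isUnit_of_five (P : H80.TTPolar.Five D) : ∃ n, 4 ≤ n ∧ IsUnit D n := by
  classical
  obtain ⟨n, ρ, hn, E⟩ := P.exists_embed
  have hn3 : 3 ≤ n := by omega
  have H' := cls_tvq (F := Fq) fq_card hn
  let f : ↥D → ↥(tvq n Fq) := fun d =>
    ⟨H7Thick.Model.pt fq_card (ρ d) (E.iso d d.2),
      H7Thick.Model.pt_mem fq_card (E.iso d d.2) (E.ne d d.2)⟩
  have hcomm : ∀ a b : ↥D, Commute (f a : PSU n Fq 2) (f b) ↔ Commute (a : G) b := fun a b =>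
    (H7Thick.Model.commute_pt fq_card hn3 (E.iso a a.2) (E.iso b b.2)).trans (E.commute a a.2 b b.2)
  have hf : Function.Bijective f := by
    refine ⟨fun a b h => Subtype.ext (P.eq_of_commute_subset a.2 b.2 fun r hr har => ?_), fun q => ?_⟩
    · exact (hcomm b ⟨r, hr⟩).1 (h ▸ (hcomm a ⟨r, hr⟩).2 har)
    · obtain ⟨z, hz, hz0, ez⟩ := H7Thick.Model.exists_pt fq_card q.2
      obtain ⟨p, hp, k, hk, hzp⟩ := E.surj z hz0 hz
      exact ⟨⟨p, hp⟩, Subtype.ext (((H7Thick.Model.pt_eq_iff fq_card hn3 (E.iso p hp) hz hz0).2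
        ⟨k, hk, hzp⟩).trans ez.symm)⟩
  refine ⟨n, hn, Fq, inferInstance, inferInstance, fq_card.trans (by norm_num), ?_⟩
  exact H7Fischer.isoTo_of_equivariant P.cl.2.2 H'.cl.2.2 (fun g => P.eq_one_of_fix)
    (fun g => H'.eq_one_of_fix) (fun a ha => P.toCls.sq ha) (fun a ha => H'.sq ha)
    (fun a _ b hb => P.toCls.mem_cj a hb) (Equiv.ofBijective f hf)
    (H7Thick.graph_equivariant P.toCls H' (hypUnique_tvq fq_card hn) _ hcomm)

end Cfsg.Agent.H80.TTFischer
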