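import Cfsg.Agent.H7Fischer.Residue
import Cfsg.Agent.H97.Refl3.Class
import Cfsg.Agent.Orthogonal.POmega
import Cfsg.Agent.Orthogonal.StdForms
import Cfsg.Agent.H80.TTFischer.Psu
import Cfsg.Agent.S1616
import Cfsg.Agent.S1615
import Cfsg.Agent.S5361
import Cfsg.Agent.S5375
import Cfsg.Agent.H93.Count22
import Cfsg.Agent.H93.Count23G

/-!
Simple groups generated by a class of 3-transpositions: the consequences of a classification of
the classes with central local cores.
-/

set_option autoImplicit false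
set_option linter.unusedSectionVars false

namespace Cfsg.Agent.H80.TTFischer

open Cfsg QuadraticMap
open H76.LocallyS3 (nb cj)
open H80.TTQuad (Cls)
open Cfsg.Agent.Orthogonal (Nondeg O rO toO spinor detSign)
open H7Fischer (refl3 swaps IsSym IsSymp IsUnit IsOrthTwo IsOrthThree IsFischerType Central Conn IsoTo)

universe u

section Groups

/-- Isomorphic groups have isomorphic central quotients. -/
theorem center_quot_congr {A B : Type*} [Group A] [Group B] (e : A ≃* B) :
    Nonempty (A ⧸ Subgroup.center A ≃* B ⧸ Subgroup.center B) := by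
  refine ⟨QuotientGroup.congr (Subgroup.center A) (Subgroup.center B) e ?_⟩
  ext x
  constructor
  · rintro ⟨y, hy, rfl⟩
    refine Subgroup.mem_center_iff.2 fun z => ?_
    obtain ⟨z, rfl⟩ := e.surjective z
    exact (map_mul e z y).symm.trans
      ((congrArg e (Subgroup.mem_center_iff.1 hy z)).trans (map_mul e y z))
  · intro hx
    refine ⟨e.symm x, Subgroup.mem_center_iff.2 fun z => ?_, e.apply_symm_apply x⟩
    apply e.injective
    simp only [map_mul, MulEquiv.apply_symm_apply]
    exact Subgroup.mem_center_iff.1 hx _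

theorem not_simple_of_index_two {G : Type*} [Group G] [Finite G] (H : Subgroup G) (h : H.index = 2)
    (h3 : 2 < Nat.card G) : ¬ IsSimpleGroup G := by
  intro _
  have : H.Normal := Subgroup.normal_of_index_eq_two h
  rcases this.eq_bot_or_eq_top with e | e
  · rw [e, Subgroup.index_bot] at h
    omega
  · rw [e, Subgroup.index_top] at h
    omega

end Groups

section Odd

variable {n : ℕ} {Q : QuadraticForm (ZMod 3) (Fin n → ZMod 3)} {c : ZMod 3}
  (hQ : Nondeg Q) (hc : c ≠ 0) (hn : 5 ≤ n)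
include hQ hc hn

open H97.Refl3 (RGrp PGrp toOrth toOrth_injective toOrth_rf rf pt pt_eq_iff exists_pt commute_pt)

theorem range_toOrth : (toOrth Q c).range = Orthogonal.classGroup Q c := by
  have hsq : ∀ t : ZMod 3, t ≠ 0 → t ^ 2 = 1 := by decide
  rw [MonoidHom.range_eq_map, ← H97.Refl3.closure_rf, MonoidHom.map_closure, Orthogonal.classGroup]
  congr 1
  ext g
  constructor
  · rintro ⟨_, ⟨v, hv, rfl⟩, rfl⟩
    exact ⟨v, 1, one_ne_zero, by rw [hv, one_pow, mul_one], toOrth_rf hv⟩
  · rintro ⟨v, t, ht, hv, rfl⟩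
    rw [hsq t ht, mul_one] at hv
    exact ⟨rf hv, ⟨v, hv, rfl⟩, toOrth_rf hv⟩

/-- A central element of the reflection group is a scalar. -/
theorem scalar_of_center {z : RGrp Q c} (hz : z ∈ Subgroup.center (RGrp Q c)) :
    ∃ s : ZMod 3, (s = 1 ∨ s = -1) ∧ ∀ x, (toOrth Q c z : (Fin n → ZMod 3) ≃ₗ[ZMod 3] _) x = s • x := by
  set g := (toOrth Q c z : (Fin n → ZMod 3) ≃ₗ[ZMod 3] (Fin n → ZMod 3))
  have hfix : ∀ w, Q w = c → g w = w ∨ g w = -w := by
    intro w hw
    have hgw : Q (g w) = c := by rw [Orthogonal.O.map_app, hw]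
    refine Orthogonal.eq_or_neg_of_rO_eq H97.Refl3.two_ne hc hw hgw ?_
    rw [← Orthogonal.conj_rO, ← toOrth_rf hw, ← map_inv, ← map_mul, ← map_mul,
      ← Subgroup.mem_center_iff.1 hz (rf hw), mul_inv_cancel_right]
  obtain ⟨u, hu⟩ := hQ.exists_value (by rw [Module.finrank_fin_fun]; omega) c
  obtain ⟨s, hs, hsu⟩ : ∃ s : ZMod 3, (s = 1 ∨ s = -1) ∧ g u = s • u := by
    rcases hfix u hu with h | h
    · exact ⟨1, Or.inl rfl, by rw [h, one_smul]⟩
    · exact ⟨-1, Or.inr rfl, by rw [h, neg_one_smul]⟩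
  have hss : s * s = 1 := by rcases hs with rfl | rfl <;> decide
  have all : ∀ w (hw : Q w = c), g w = s • w := by
    have hcl := H97.Refl3.class_refl3 hQ hc hn
    intro w hw
    suffices key : ∀ p, Relation.ReflTransGen
        (fun p q => p ∈ refl3 Q c ∧ q ∈ refl3 Q c ∧ ¬ Commute p q) (pt hu) p →
        ∀ w (hw : Q w = c), pt hw = p → g w = s • w from
      key _ (H44.tt_noncommute_connected hcl (H97.Refl3.pt_mem hu) (H97.Refl3.pt_mem hw)) w hw rfl
    intro p hp
    induction hp with
    | refl =>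
      intro w hw e
      rcases (pt_eq_iff hQ hc hn hw hu).1 e with q | q
      · rw [← q]; exact hsu
      · have : w = -u := by rw [q, neg_neg]
        rw [this, map_neg, hsu, smul_neg]
    | @tail p q _ hpq ih =>
      intro w hw e
      obtain ⟨v, hv, rfl⟩ := exists_pt hpq.1
      have hgv := ih v hv rfl
      have hpol : polar Q v w ≠ 0 := fun h =>
        hpq.2.2 (by rw [← e]; exact (commute_pt hQ hc hn hv hw).2 (Or.inl h))
      have hinv : polar Q (g v) (g w) = polar Q v w := by
        simp only [QuadraticMap.polar, ← map_add, g, Orthogonal.O.map_app]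
      rcases hfix w hw with h | h
      · rw [hgv, h, QuadraticMap.polar_smul_left, smul_eq_mul] at hinv
        have : s = 1 := mul_right_cancel₀ hpol (hinv.trans (one_mul _).symm)
        rw [h, this, one_smul]
      · rw [hgv, h, QuadraticMap.polar_smul_left, QuadraticMap.polar_neg_right, smul_eq_mul,
          mul_neg] at hinv
        have : s = -1 := mul_right_cancel₀ hpol (by linear_combination -hinv)
        rw [h, this, neg_one_smul]
  refine ⟨s, hs, fun x => ?_⟩
  by_contra hne
  obtain ⟨w, hw, hpw⟩ := H97.Refl3.exists_not_perp (c := c) hQ hn hc (sub_ne_zero.2 hne)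
  have hinv : polar Q (g x) (g w) = polar Q x w := by
    simp only [QuadraticMap.polar, ← map_add, g, Orthogonal.O.map_app]
  rw [all w hw, QuadraticMap.polar_smul_right, smul_eq_mul] at hinv
  refine hpw ?_
  rw [QuadraticMap.polar_sub_left, QuadraticMap.polar_smul_left, smul_eq_mul, ← hinv, ← mul_assoc,
    hss, one_mul, sub_self]

/-- A simple projective reflection group is `PΩ` in odd dimension. -/
theorem pomega_of_simple (hs : IsSimpleGroup (PGrp Q c)) :
    ∃ m : ℕ, Nonempty (PGrp Q c ≃* Cfsg.POmega (ZMod 3) (Cfsg.quadFormOdd m (ZMod 3))) := by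
  have h2 : (2 : ZMod 3) ≠ 0 := H97.Refl3.two_ne
  have hfr : Module.finrank (ZMod 3) (Fin n → ZMod 3) = n := Module.finrank_fin_fun (ZMod 3)
  have hn' : 5 ≤ Module.finrank (ZMod 3) (Fin n → ZMod 3) := by rw [hfr]; exact hn
  have hr := range_toOrth hQ hc hn
  have hinj : Function.Injective (toOrth Q c) := toOrth_injective
  set R := RGrp Q c
  set Z := Subgroup.center R
  set C := commutator R
  have hidx : C.index = 2 := Orthogonal.index_commutator_classGroup hQ h2 hc hn' _ hinj hr
  have hmap := Orthogonal.map_commutator_classGroup hQ h2 hc hn' _ hr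
  have hqs := Orthogonal.isQuasisimple_commutator_classGroup hQ h2 hc hn' _ hinj hr
  let π := QuotientGroup.mk' Z
  have hCn : (C.map π).Normal := Subgroup.Normal.map inferInstance _ (QuotientGroup.mk'_surjective _)
  have htop : C.map π = ⊤ := by
    refine hCn.eq_bot_or_eq_top.resolve_left fun h => ?_
    rw [Subgroup.map_eq_bot_iff, QuotientGroup.ker_mk'] at h
    have hC : Subgroup.center ↥C = ⊤ := eq_top_iff.2 fun a _ => Subgroup.mem_center_iff.2
      fun b => Subtype.ext (Subgroup.mem_center_iff.1 (h a.2) b)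
    have := hqs.2
    obtain ⟨p, q, hpq⟩ := this.toNontrivial
    obtain ⟨p, rfl⟩ := QuotientGroup.mk_surjective p
    obtain ⟨q, rfl⟩ := QuotientGroup.mk_surjective q
    exact hpq (QuotientGroup.eq.2 (hC ▸ Subgroup.mem_top _))
  let f : ↥C →* PGrp Q c := π.comp C.subtype
  have hfs : Function.Surjective f := fun y => by
    obtain ⟨x, hx, e⟩ : y ∈ C.map π := htop ▸ Subgroup.mem_top y
    exact ⟨⟨x, hx⟩, e⟩
  have hker : f.ker = Subgroup.center ↥C := by
    ext a
    rw [MonoidHom.mem_ker, MonoidHom.comp_apply, QuotientGroup.mk'_apply, QuotientGroup.eq_one_iff,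
      Subgroup.mem_center_iff, Subgroup.mem_center_iff]
    refine ⟨fun h b => Subtype.ext (h b), fun h x => ?_⟩
    obtain ⟨b, hb⟩ := hfs (π x)
    have hz : ((b : R)⁻¹ * x) ∈ Z := QuotientGroup.eq.1 hb
    have e : x = (b : R) * ((b : R)⁻¹ * x) := (mul_inv_cancel_left _ _).symm
    have hb' : (b : R) * a = (a : R) * b := congrArg Subtype.val (h b)
    show x * (a : R) = (a : R) * x
    rw [e, mul_assoc, ← Subgroup.mem_center_iff.1 hz (a : R), ← mul_assoc, hb', mul_assoc]
  -- the dimension is odd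
  have hodd : Odd n := by
    by_contra hev
    rw [Nat.not_odd_iff_even] at hev
    obtain ⟨z, hzZ, hzC⟩ : ∃ z ∈ Z, z ∉ C := by
      by_contra h
      push Not at h
      have : C = ⊤ := eq_top_iff.2 fun x _ => by
        obtain ⟨b, hb⟩ := hfs (π x)
        have := C.mul_mem b.2 (h _ (QuotientGroup.eq.1 hb))
        simpa using this
      rw [this, Subgroup.index_top] at hidx
      omega
    refine hzC ?_
    obtain ⟨s, hs', hsx⟩ := scalar_of_center hQ hc hn hzZ
    have hdet : detSign Q hQ h2 (toOrth Q c z) = 1 := by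
      rw [Orthogonal.detSign_eq_one_iff hQ h2]
      have e : ((toOrth Q c z : (Fin n → ZMod 3) ≃ₗ[ZMod 3] (Fin n → ZMod 3)) :
          (Fin n → ZMod 3) →ₗ[ZMod 3] (Fin n → ZMod 3)) = s • LinearMap.id :=
        LinearMap.ext fun x => by simpa using hsx x
      rw [e, LinearMap.det_smul, LinearMap.det_id, mul_one, hfr]
      rcases hs' with rfl | rfl
      · exact one_pow n
      · exact hev.neg_one_pow
    have hspin : ∀ x : R, detSign Q hQ h2 (toOrth Q c x) = 1 → spinor Q hQ h2 (toOrth Q c x) = 1 := by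
      intro x hx
      have key : (spinor Q hQ h2).comp (toOrth Q c) =
          (if Orthogonal.sqSign c = 1 then 1 else (detSign Q hQ h2).comp (toOrth Q c)) := by
        refine MonoidHom.eq_of_eqOn_dense H97.Refl3.closure_rf ?_
        rintro _ ⟨v, hv, rfl⟩
        rw [MonoidHom.comp_apply, toOrth_rf, Orthogonal.spinor_rO hQ h2 (by rw [hv]; exact hc), hv]
        split_ifs with h
        · rw [h]; rfl
        · rw [MonoidHom.comp_apply, toOrth_rf, Orthogonal.detSign_rO hQ h2 (by rw [hv]; exact hc)]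
          exact (Int.units_eq_one_or _).resolve_left h
      have := DFunLike.congr_fun key x
      rw [MonoidHom.comp_apply] at this
      rw [this]
      split_ifs
      · rfl
      · exact hx
    have : toOrth Q c z ∈ C.map (toOrth Q c) := by
      rw [hmap, Orthogonal.mem_commutator_iff hQ h2]
      exact ⟨hdet, hspin z hdet⟩
    obtain ⟨z', hz', e⟩ := this
    rwa [← hinj e]
  obtain ⟨m, hm⟩ := hodd
  obtain ⟨-, α, E, hα, hE⟩ := hQ.classify_odd (m := m) (by rw [hfr, hm])
  set S := Orthogonal.formOdd (ZMod 3) m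
  have hsub : O (α • S) = O S := by
    ext g
    simp only [Orthogonal.mem_O, QuadraticMap.smul_apply, smul_eq_mul]
    exact forall_congr' fun x => ⟨mul_left_cancel₀ hα, fun h => by rw [h]⟩
  let fO : O Q ≃* O S := (Orthogonal.congrO E (Q := α • S) (Q' := Q) (fun x => hE x)).symm.trans
    (MulEquiv.subgroupCongr hsub)
  have hmapO : (commutator (O Q)).map fO.toMonoidHom = commutator (O S) := by
    rw [commutator_def, Subgroup.map_commutator, Subgroup.map_top_of_surjective _ fO.surjective,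
      ← commutator_def]
  obtain ⟨e1⟩ := center_quot_congr ((((C.equivMapOfInjective (toOrth Q c) hinj).trans
    (MulEquiv.subgroupCongr hmap)).trans ((fO.subgroupMap _).trans (MulEquiv.subgroupCongr hmapO))).trans
    (Orthogonal.omegaEquiv S).symm)
  exact ⟨m, ⟨((QuotientGroup.quotientKerEquivOfSurjective f hfs).symm.trans
    (QuotientGroup.quotientMulEquivOfEq hker)).trans e1⟩⟩

end Odd

variable {G : Type u} [Group G] [Finite G] {D : Set G}

theorem not_simple_sym (h : IsSym D) : ¬ IsSimpleGroup G := by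
  intro hs
  obtain ⟨n, hn, e, -⟩ := h
  have hs' := MulEquiv.isSimpleGroup e.symm
  have : Nontrivial (Fin n) := ⟨⟨0, by omega⟩, ⟨1, by omega⟩, by simp⟩
  refine not_simple_of_index_two (alternatingGroup (Fin n)) alternatingGroup.index_eq_two ?_ hs'
  rw [Nat.card_eq_fintype_card, Fintype.card_perm, Fintype.card_fin]
  exact lt_of_lt_of_le (by norm_num [Nat.factorial]) (Nat.factorial_le hn)

theorem not_simple_orth {ι : Type} [Fintype ι] [DecidableEq ι]
    {Q : QuadraticForm (ZMod 2) (ι → ZMod 2)} (hQ : Nondeg Q) (hι : 6 ≤ Fintype.card ι)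
    (e : G ≃* Cfsg.isometryGroup (ZMod 2) (⇑Q)) : ¬ IsSimpleGroup G := by
  intro hs
  let e' := e.trans (toO Q)
  have hs' := MulEquiv.isSimpleGroup e'.symm
  have hfr : Module.finrank (ZMod 2) (ι → ZMod 2) = Fintype.card ι :=
    Module.finrank_fintype_fun_eq_card _
  have hgen := Orthogonal.reflGroup_eq_top hQ (Or.inr (by rw [hfr]; omega))
  have h2 : (2 : ZMod 2) = 0 := by decide
  have hidx := Orthogonal.index_commutator_eq_two hQ hgen h2 (by rw [hfr]; omega)
  have : Finite (O Q) := Finite.of_equiv G e'.toEquiv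
  refine not_simple_of_index_two _ hidx ?_ hs'
  by_contra hle
  push Not at hle
  have hab : ∀ a b : O Q, a * b = b * a := by
    intro a b
    have : Nat.card (O Q) ≤ 2 := hle
    rcases (show Nat.card (O Q) = 1 ∨ Nat.card (O Q) = 2 by
      have := Nat.card_pos (α := O Q); omega) with h1 | h1
    · exact @Subsingleton.elim _ (Nat.card_eq_one_iff_unique.1 h1).1 _ _
    · haveI : Fact (Nat.Prime 2) := ⟨Nat.prime_two⟩
      exact (isCyclic_of_prime_card h1).isMulCommutative.is_comm.comm a b
  have hbot : commutator (O Q) = ⊥ := by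
    rw [commutator_def, Subgroup.commutator_eq_bot_iff_le_centralizer]
    exact fun a _ => Subgroup.mem_centralizer_iff.2 fun b _ => hab b a
  have := Orthogonal.isSimpleGroup_quot_center hQ (by rw [hfr]; omega)
  obtain ⟨p, q, hpq⟩ := this.toNontrivial
  obtain ⟨p, rfl⟩ := QuotientGroup.mk_surjective p
  obtain ⟨q, rfl⟩ := QuotientGroup.mk_surjective q
  refine hpq (congrArg _ (Subtype.ext ?_))
  have hp : (p : O Q) = 1 := Subgroup.mem_bot.1 (hbot ▸ p.2)
  have hq : (q : O Q) = 1 := Subgroup.mem_bot.1 (hbot ▸ q.2)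
  rw [hp, hq]

theorem not_simple_orthTwo (h : IsOrthTwo D) : ¬ IsSimpleGroup G := by
  rcases h with ⟨m, hm, e, -⟩ | ⟨m, hm, e, -⟩
  · exact not_simple_orth (Q := Orthogonal.formPlus (ZMod 2) m) (Orthogonal.formPlus_nondeg _ _)
      (by simp; omega) e
  · exact not_simple_orth (Q := Orthogonal.formMinus (ZMod 2) m 1 1)
      (Orthogonal.formMinus_nondeg m (by decide)) (by simp; omega) e

theorem not_simple_m24 (hD : Cfsg.IsThreeTranspositionGroup D)
    (hprim : Cfsg.IsPrimitiveUnderConj D) (ht : Cfsg.IsOfTypeM24 G D) : ¬ IsSimpleGroup G := by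
  obtain ⟨hidx, -, hcard, -⟩ := S5375.result hD hprim ht
  exact not_simple_of_index_two _ hidx (by rw [hcard]; norm_num)

theorem pomega_of_orthThree {n : ℕ} (hn : 5 ≤ n) {μ c : ZMod 3} (h : IsOrthThree D n μ c)
    (hs : IsSimpleGroup G) :
    ∃ m : ℕ, Nonempty (G ≃* Cfsg.POmega (ZMod 3) (Cfsg.quadFormOdd m (ZMod 3))) := by
  obtain ⟨Q, hQ, -, hc, e, -⟩ := h
  have := MulEquiv.isSimpleGroup e.symm
  obtain ⟨m, ⟨e'⟩⟩ := pomega_of_simple (Orthogonal.nondeg_of_polarBilin hQ) hc hn this
  exact ⟨m, ⟨e.trans e'⟩⟩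

/-- The classification of classes with central local cores, as used for simple groups. -/
def MainClass (D : Set G) : Prop :=
  Cls D → Central D → Conn D →
    IsSym D ∨ IsOrthTwo D ∨ (∃ n μ c, 5 ≤ n ∧ IsOrthThree D n μ c) ∨ IsFischerType D

/-- Simple groups generated by a class of 3-transpositions. -/
theorem simple_classify (hM : MainClass D) [IsSimpleGroup G] (hna : ∃ x y : G, x * y ≠ y * x)
    (hD : Cfsg.IsThreeTranspositionClass D) :
    (∃ n : ℕ, Nonempty (G ≃* Matrix.symplecticGroup (Fin n) (ZMod 2))) ∨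
      (∃ (F : Type) (_ : Field F) (_ : Fintype F) (n : ℕ), Fintype.card F = 4 ∧
        Nonempty (G ≃* Cfsg.PSU n F 2)) ∨
      (∃ m : ℕ, Nonempty (G ≃* Cfsg.POmega (ZMod 3) (Cfsg.quadFormOdd m (ZMod 3)))) ∨
      Cfsg.IsFi22 G ∨ Cfsg.IsFi23 G := by
  have hsimp : IsSimpleGroup G := inferInstance
  obtain ⟨x₀, y₀, hxy⟩ := hna
  have hperf : commutator G = ⊤ := by
    refine (Subgroup.Normal.eq_bot_or_eq_top (H := commutator G) inferInstance).resolve_left fun h => ?_
    rw [commutator_def, Subgroup.commutator_eq_bot_iff_le_centralizer] at h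
    exact hxy (Subgroup.mem_centralizer_iff.1 (h (Subgroup.mem_top y₀)) x₀ trivial)
  have hperf2 : ⁅commutator G, commutator G⁆ = commutator G := by
    rw [hperf, ← commutator_def, hperf]
  have hsol : ∀ N : Subgroup G, N.Normal → Group.IsSolvable ↥N → N = ⊥ := fun N hN hs =>
    hN.eq_bot_or_eq_top.resolve_right fun e => by
      subst e
      have : Group.IsSolvable G := Group.isSolvable_of_surjective (f := (⊤ : Subgroup G).subtype)
        fun g => ⟨⟨g, Subgroup.mem_top g⟩, rfl⟩
      exact hxy (IsSimpleGroup.comm_iff_isSolvable.2 this x₀ y₀)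
  have H : Cls D := ⟨hD, hsol⟩
  have h5 : ¬ Nonempty (G ≃* Equiv.Perm (Fin 5)) := fun ⟨e⟩ =>
    not_simple_sym (D := e.symm '' swaps 5)
      ⟨5, le_rfl, e, by rw [Set.image_image]; simp⟩ hsimp
  obtain ⟨x, hx⟩ := H.nonempty
  obtain ⟨b, hb⟩ := H.nb_nonempty hx
  by_cases h3 : Cfsg.pCore 3 ↥(Subgroup.closure {y : G | y ∈ D ∧ y ≠ x ∧ Commute x y}) ≤
      Subgroup.center ↥(Subgroup.closure {y : G | y ∈ D ∧ y ≠ x ∧ Commute x y})
  swap
  · refine absurd (S1615.result hsol hperf2 hD x hx fun h => h3 (le_trans ?_ h)) h5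
    refine Cores.le_oddCore ?_
    have : Fact (Nat.Prime 3) := ⟨Nat.prime_three⟩
    obtain ⟨k, hk⟩ := (Cores.pCore_isPGroup (p := 3) (G := ↥(Subgroup.closure
      {y : G | y ∈ D ∧ y ≠ x ∧ Commute x y}))).exists_card_eq
    rw [hk]
    exact (by decide : Odd 3).pow
  by_cases h2 : Cfsg.pCore 2 ↥(Subgroup.closure {y : G | y ∈ D ∧ y ≠ x ∧ Commute x y}) ≤
      Subgroup.center ↥(Subgroup.closure {y : G | y ∈ D ∧ y ≠ x ∧ Commute x y})
  swap
  · rcases S1616.result hsol hperf2 hD x hx h2 with h | h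
    · exact Or.inl h
    · exact Or.inr (Or.inl h)
  have hC : Central D := H7Fischer.central_of_at H hx ⟨h2, h3⟩
  have hw : ∃ a ∈ D, ∃ b ∈ D, a ≠ b ∧ Commute a b := ⟨x, hx, b, hb.1, hb.2.1.symm, hb.2.2⟩
  have hcomm : IsSimpleGroup (commutator G) :=
    MulEquiv.isSimpleGroup ((MulEquiv.subgroupCongr hperf).trans Subgroup.topEquiv)
  obtain ⟨hp, hiff⟩ := S5361.result hD H.center_eq_bot hw
  have hprim := hp.1 hcomm
  have hgrp : Cfsg.IsThreeTranspositionGroup D :=
    ⟨hD.1, fun g d hd => H44.tt_invariant hD g hd, hD.2.2⟩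
  rcases hM H hC (hiff.1 hprim).2.2 with h | h | ⟨n, μ, c, hn, h⟩ | h | h | h
  · exact absurd hsimp (not_simple_sym h)
  · exact absurd hsimp (not_simple_orthTwo h)
  · exact Or.inr (Or.inr (Or.inl (pomega_of_orthThree hn h hsimp)))
  · obtain ⟨K, iK, iKf, g22⟩ := H93.geo22 hD h
    exact Or.inr (Or.inr (Or.inr (Or.inl ⟨hsimp, by rw [g22.card_group hx]⟩)))
  · exact Or.inr (Or.inr (Or.inr (Or.inr ⟨hsimp, by rw [(H93.geo23 hD h).card_group hx]⟩)))
  · exact absurd hsimp (not_simple_m24 hgrp hprim h)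

end Cfsg.Agent.H80.TTFischer
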