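import Cfsg.Agent.H80.TTFischer.Simple
import Cfsg.Agent.H7Fischer.Main

/-!
The main classification in the form the reductions use.
-/

set_option autoImplicit false
set_option linter.unusedSectionVars false

namespace Cfsg.Agent.H80.TTFischer

open Cfsg
open H7Fischer (M23Step IsFischerType)

universe u

variable {G : Type u} [Group G] [Finite G] {D : Set G}

/-- The main classification from the step from M(23). -/
theorem mainClass (h23 : M23Step.{u}) : MainClass D := by
  intro H hC hconn
  rcases H7Fischer.classification h23 H hC hconn with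
    h | ⟨n, hn, h⟩ | h | h | h | h
  · exact Or.inr (Or.inl h)
  · exact Or.inl ⟨n, by omega, h⟩
  · exact Or.inr (Or.inr (Or.inl h))
  · exact Or.inr (Or.inr (Or.inr (Or.inl h.1)))
  · exact Or.inr (Or.inr (Or.inr (Or.inr (Or.inl h.1))))
  · exact Or.inr (Or.inr (Or.inr (Or.inr (Or.inr h))))

end Cfsg.Agent.H80.TTFischer
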