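import Cfsg.Agent.H7Thick.Model

/-!
No isotropic point is non-orthogonal to all of a chain of four points and their conjugates.
-/

set_option autoImplicit false
set_option linter.unusedSectionVars false

namespace Cfsg.Agent.H80.TTFischer

open Cfsg
open Cfsg.Agent.Unitary hiding cj cj_apply cj_cj cj_add cj_smul cj_zero cj_eq_zero
open H76.LocallyS3 (cj)
open H7Thick.Model

/-- Four members, each non-commuting exactly with its successor. -/
structure Chain {G : Type*} [Group G] (a b c d : G) : Prop where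
  ab : ¬ Commute a b
  bc : ¬ Commute b c
  cd : ¬ Commute c d
  ac : Commute a c
  ad : Commute a d
  bd : Commute b d

variable {F : Type} [Field F] [Fintype F] {n : ℕ} (hF : Fintype.card F = 2 ^ 2)
include hF

theorem two_eq_zero : (2 : F) = 0 := by
  have h1 : ((4 : ℕ) : F) = 0 := by
    rw [show (4 : ℕ) = Fintype.card F from hF.symm]
    exact Nat.cast_card_eq_zero F
  have h2 : (2 : F) * 2 = 0 := by
    norm_num at h1 ⊢
    exact h1
  exact (mul_eq_zero.1 h2).elim id id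

/-- The third member, with the value of the functional. -/
theorem cj_pt_value {q u v : Fin n → F}
    (hu : hermForm n F 2 u u = 0) (hv : hermForm n F 2 v v = 0)
    (hfu : hermForm n F 2 u q = 1) :
    cj (pt hF u hu) (pt hF v hv) = pt hF (v + hermForm n F 2 v u • u) (iso_add_cj hF hu hv) ∧
      hermForm n F 2 (v + hermForm n F 2 v u • u) q
        = hermForm n F 2 v q + hermForm n F 2 v u := by
  refine ⟨cj_pt hF hu hv (iso_add_cj hF hu hv), ?_⟩
  rw [herm_add_left, herm_smul_left, hfu, mul_one]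

/-- The computation behind the chain lemma. -/
theorem chain_values {a b c : F} (ha : a ≠ 0) (hb : b ≠ 0) (hc : c ≠ 0) (h13 : 1 + a ≠ 0)
    (h24 : 1 + b ≠ 0) (h35 : 1 + c ≠ 0) (h14 : 1 + a + a * b ≠ 0) (h25 : 1 + b + b * c ≠ 0)
    (h15 : 1 + a + a * b + a * b * c ≠ 0) : False := by
  have h2 := two_eq_zero hF
  have sq : ∀ x : F, x ≠ 0 → 1 + x ≠ 0 → x * x = x + 1 := fun x hx hx1 => by
    have h3 := cube hF hx
    have e : (1 + x) * (x * x + x + 1) = 0 := by linear_combination h3 + (x ^ 2 + x + 1) * h2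
    rcases mul_eq_zero.1 e with h | h
    · exact absurd h hx1
    · linear_combination h - (x + 1) * h2
  have ne : ∀ x y : F, x ≠ 0 → 1 + x ≠ 0 → y ≠ 0 → 1 + y ≠ 0 → 1 + x + x * y ≠ 0 →
      y = x + 1 := fun x y hx hx1 hy hy1 hxy => by
    have e : (y + x) * (y + x + 1) = 0 := by
      linear_combination sq x hx hx1 + sq y hy hy1 + (x + y + x * y + 1) * h2
    rcases mul_eq_zero.1 e with h | h
    · exfalso
      have hyx : y = x := by linear_combination h - x * h2
      subst hyx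
      exact hxy (by linear_combination sq y hy hy1 + (y + 1) * h2)
    · linear_combination h - (x + 1) * h2
  have eb := ne a b ha h13 hb h24 h14
  have ec := ne b c hb h24 hc h35 h25
  refine h15 ?_
  rw [ec, eb]
  linear_combination (a + 5) * sq a ha h13 + (5 * a + 3) * h2

/-- A point is orthogonal to one of the chain or of the six conjugates. -/
theorem chain_perp (hn : 3 ≤ n) {q p₁ p₂ p₃ p₄ : PSU n F 2} (hq : q ∈ tvq n F)
    (h1 : p₁ ∈ tvq n F) (h2 : p₂ ∈ tvq n F) (h3 : p₃ ∈ tvq n F) (h4 : p₄ ∈ tvq n F)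
    (hc : Chain p₁ p₂ p₃ p₄) :
    Commute p₁ q ∨ Commute p₂ q ∨ Commute p₃ q ∨ Commute p₄ q ∨ Commute (cj p₂ p₁) q ∨
      Commute (cj p₃ p₂) q ∨ Commute (cj p₄ p₃) q ∨ Commute (cj p₃ (cj p₂ p₁)) q ∨
      Commute (cj p₄ (cj p₃ p₂)) q ∨ Commute (cj p₄ (cj p₃ (cj p₂ p₁))) q := by
  by_contra hno
  simp only [not_or] at hno
  obtain ⟨k1, k2, k3, k4, k13, k24, k35, k14, k25, k15⟩ := hno
  obtain ⟨w, hw, hw0, rfl⟩ := exists_pt hF hq
  have norm : ∀ p ∈ tvq n F, ¬ Commute p (pt hF w hw) → ∃ (u : Fin n → F)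
      (hu : hermForm n F 2 u u = 0), p = pt hF u hu ∧ hermForm n F 2 u w = 1 := by
    intro p hp hne
    obtain ⟨u, hu, -, rfl⟩ := exists_pt hF hp
    have h0 : hermForm n F 2 u w ≠ 0 := fun h => hne ((commute_pt hF hn hu hw).2 h)
    refine ⟨(hermForm n F 2 u w)⁻¹ • u, herm_smul_zero hF hu _, ?_, ?_⟩
    · exact (pt_smul hF hu _ (inv_ne_zero h0)).symm
    · rw [herm_smul_left, inv_mul_cancel₀ h0]
  obtain ⟨u₁, hu₁, rfl, f1⟩ := norm _ h1 k1
  obtain ⟨u₂, hu₂, rfl, f2⟩ := norm _ h2 k2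
  obtain ⟨u₃, hu₃, rfl, f3⟩ := norm _ h3 k3
  obtain ⟨u₄, hu₄, rfl, f4⟩ := norm _ h4 k4
  have nz : ∀ {u v : Fin n → F} (hu : hermForm n F 2 u u = 0) (hv : hermForm n F 2 v v = 0),
      ¬ Commute (pt hF u hu) (pt hF v hv) → hermForm n F 2 u v ≠ 0 :=
    fun hu hv h h0 => h ((commute_pt hF hn hu hv).2 h0)
  have e13 := (commute_pt hF hn hu₁ hu₃).1 hc.ac
  have e14 := (commute_pt hF hn hu₁ hu₄).1 hc.ad
  have e24 := (commute_pt hF hn hu₂ hu₄).1 hc.bd
  obtain ⟨c13, v13⟩ := cj_pt_value hF hu₂ hu₁ f2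
  obtain ⟨c24, v24⟩ := cj_pt_value hF hu₃ hu₂ f3
  obtain ⟨c35, v35⟩ := cj_pt_value hF hu₄ hu₃ f4
  obtain ⟨c14, v14⟩ := cj_pt_value hF hu₃ (iso_add_cj hF hu₂ hu₁) f3
  obtain ⟨c25, v25⟩ := cj_pt_value hF hu₄ (iso_add_cj hF hu₃ hu₂) f4
  obtain ⟨c15, v15⟩ := cj_pt_value hF hu₄
    (iso_add_cj hF hu₃ (iso_add_cj hF hu₂ hu₁)) f4
  rw [c13] at k13 k14 k15
  rw [c24] at k24 k25
  rw [c35] at k35
  rw [c14] at k14 k15
  rw [c25] at k25
  rw [c15] at k15
  replace k13 := nz _ hw k13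
  replace k24 := nz _ hw k24
  replace k35 := nz _ hw k35
  replace k14 := nz _ hw k14
  replace k25 := nz _ hw k25
  replace k15 := nz _ hw k15
  rw [v13, f1] at k13
  rw [v24, f2] at k24
  rw [v35, f3] at k35
  rw [v14, v13, f1] at k14
  rw [v25, v24, f2] at k25
  rw [v15, v14, v13, f1] at k15
  simp only [herm_add_left, herm_smul_left, e13, e14, e24, zero_add, mul_zero, add_zero]
    at k14 k25 k15
  exact chain_values hF (nz hu₁ hu₂ hc.ab) (nz hu₂ hu₃ hc.bc) (nz hu₃ hu₄ hc.cd) k13 k24 k35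
    (by rwa [mul_comm] at k14 ⊢) (by rwa [mul_comm] at k25 ⊢) k15

omit hF in
/-- The sum of two basis vectors. -/
def pairVec (i j : Fin n) : Fin n → F := Pi.single i 1 + Pi.single j 1

theorem exists_chain (hn : 4 ≤ n) : ∃ a ∈ tvq n F, ∃ b ∈ tvq n F, ∃ c ∈ tvq n F, ∃ d ∈ tvq n F,
    Chain a b c d := by
  obtain ⟨r, hr0, hr1⟩ : ∃ r : F, r ≠ 0 ∧ r ≠ 1 := by
    by_contra h
    push Not at h
    classical
    have hsub : (Finset.univ : Finset F) ⊆ {0, 1} := fun x _ => by
      by_cases hx : x = 0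
      · simp [hx]
      · simp [h x hx]
    have := Finset.card_le_card hsub
    rw [Finset.card_univ, hF] at this
    exact absurd (this.trans Finset.card_le_two) (by norm_num)
  have h2 := two_eq_zero hF
  have hr3 := cube hF hr0
  let i₀ : Fin n := ⟨0, by omega⟩
  let i₁ : Fin n := ⟨1, by omega⟩
  let i₂ : Fin n := ⟨2, by omega⟩
  let i₃ : Fin n := ⟨3, by omega⟩
  let w : Fin n → F := Pi.single i₀ 1 + Pi.single i₁ 1 + Pi.single i₂ 1 + Pi.single i₃ r
  have hs : ∀ (i j : Fin n) (a b : F),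
      hermForm n F 2 (Pi.single i a) (Pi.single j b) = if i = j then a * b ^ 2 else 0 := by
    intro i j a b
    rw [herm_single_left]
    by_cases h : i = j
    · simp [h]
    · simp [h]
  have ne01 : i₀ ≠ i₁ := by simp [i₀, i₁]
  have ne02 : i₀ ≠ i₂ := by simp [i₀, i₂]
  have ne03 : i₀ ≠ i₃ := by simp [i₀, i₃]
  have ne12 : i₁ ≠ i₂ := by simp [i₁, i₂]
  have ne13 : i₁ ≠ i₃ := by simp [i₁, i₃]
  have ne23 : i₂ ≠ i₃ := by simp [i₂, i₃]
  have hiso : ∀ i j : Fin n, i ≠ j → hermForm n F 2 (pairVec i j) (pairVec i j) = 0 := by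
    intro i j hij
    simp only [pairVec, herm_add_left, herm_add_right hF, hs, hij, Ne.symm hij, if_true, if_false]
    linear_combination h2
  have hw : hermForm n F 2 w w = 0 := by
    simp only [w, herm_add_left, herm_add_right hF, hs, ne01, ne02, ne03, ne12, ne13, ne23,
      ne01.symm, ne02.symm, ne03.symm, ne12.symm, ne13.symm, ne23.symm, if_true, if_false]
    linear_combination hr3 + 2 * h2
  have hne : ∀ i j : Fin n, i ≠ j → pairVec (F := F) i j ≠ 0 := fun i j hij h => by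
    have := congrFun h i
    simp [pairVec, hij] at this
  have hw0 : w ≠ 0 := fun h => by
    have := congrFun h i₀
    simp [w, ne01, ne02, ne03] at this
  have hn3 : 3 ≤ n := by omega
  refine ⟨_, pt_mem hF (hiso i₀ i₁ ne01) (hne _ _ ne01), _,
    pt_mem hF (hiso i₁ i₂ ne12) (hne _ _ ne12), _,
    pt_mem hF (hiso i₂ i₃ ne23) (hne _ _ ne23), _, pt_mem hF hw hw0, ?_⟩
  constructor <;>
    rw [commute_pt hF hn3] <;>
    simp only [pairVec, w, herm_add_left, herm_add_right hF, hs, ne01, ne02, ne03, ne12, ne13,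
      ne23, ne01.symm, ne02.symm, ne03.symm, ne12.symm, ne13.symm, ne23.symm, if_true, if_false]
  · simp
  · simp
  · intro h
    have e : (r ^ 2 + 1) = 0 := by linear_combination h
    apply hr1
    linear_combination (r : F) * e - hr3 - h2
  · simp
  · linear_combination h2
  · linear_combination h2

end Cfsg.Agent.H80.TTFischer
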