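import Cfsg.Agent.H80.TTFischer.Chain

/-!
A closed choice of a lift over each point of the class of `U_3(2)` is given by a linear function.
-/

set_option autoImplicit false
set_option linter.unusedSectionVars false

namespace Cfsg.Agent.H80.TTFischer

open Cfsg
open Cfsg.Agent.Unitary hiding cj cj_apply cj_cj cj_add cj_smul cj_zero cj_eq_zero
open H7Thick.Model (cube)

variable {F : Type} [Field F] [Fintype F] (hF : Fintype.card F = 2 ^ 2)
include hF

theorem exists_root : ∃ r : F, r ≠ 0 ∧ r ≠ 1 ∧ r * r = r + 1 := by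
  obtain ⟨r, hr0, hr1⟩ : ∃ r : F, r ≠ 0 ∧ r ≠ 1 := by
    by_contra h
    push Not at h
    classical
    have hsub : (Finset.univ : Finset F) ⊆ {0, 1} := fun x _ => by
      by_cases hx : x = 0
      · simp [hx]
      · simp [h x hx]
    have := Finset.card_le_card hsub
    rw [Finset.card_univ, hF] at this
    exact absurd (this.trans Finset.card_le_two) (by norm_num)
  refine ⟨r, hr0, hr1, ?_⟩
  have h2 := two_eq_zero hF
  have h3 := cube hF hr0
  have e : (r + 1) * (r * r + r + 1) = 0 := by linear_combination h3 + (r ^ 2 + r + 1) * h2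
  rcases mul_eq_zero.1 e with h | h
  · exact absurd (by linear_combination h - h2 : r = 1) hr1
  · linear_combination h - (r + 1) * h2

theorem elements {r : F} (hr : r * r = r + 1) {x : F} (hx : x ≠ 0) :
    x = 1 ∨ x = r ∨ x = r + 1 := by
  have h2 := two_eq_zero hF
  have h3 := cube hF hx
  have e : (x + 1) * ((x + r) * (x + (r + 1))) = 0 := by
    linear_combination h3 + (x + 1) * hr + (x + 1 + x * r + x * r + r + x ^ 2 + x * x * r) * h2
  rcases mul_eq_zero.1 e with h | h
  · exact Or.inl (by linear_combination h - h2)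
  · rcases mul_eq_zero.1 h with h' | h'
    · exact Or.inr (Or.inl (by linear_combination h' - r * h2))
    · exact Or.inr (Or.inr (by linear_combination h' - (r + 1) * h2))

theorem herm_three (u v : Fin 3 → F) :
    hermForm 3 F 2 u v = u 0 * v 0 ^ 2 + u 1 * v 1 ^ 2 + u 2 * v 2 ^ 2 := Fin.sum_univ_three _

/-- The normal forms of the isotropic vectors. -/
theorem isotropic_three {w : Fin 3 → F} (hw : hermForm 3 F 2 w w = 0) (hw0 : w ≠ 0) :
    ∃ c l : F, c ≠ 0 ∧ l ≠ 0 ∧ (w = c • ![1, l, 0] ∨ w = c • ![0, 1, l] ∨ w = c • ![1, 0, l]) := by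
  have h2 := two_eq_zero hF
  rw [herm_three hF] at hw
  have form : ∀ {i : Fin 3} {u : Fin 3 → F}, w i ≠ 0 → (∀ j, w j = w i * u j) → w = w i • u :=
    fun _ h => funext fun j => by rw [Pi.smul_apply, smul_eq_mul]; exact h j
  by_cases h0 : w 0 = 0
  · have e1 : w 1 ≠ 0 := fun h1 => by
      have e2 : w 2 = 0 := by
        by_contra h
        rw [h0, h1, cube hF h] at hw
        simp at hw
      exact hw0 (funext fun j => by fin_cases j <;> simpa)
    have e2 : w 2 ≠ 0 := fun h => by
      rw [h0, h, cube hF e1] at hw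
      simp at hw
    refine ⟨w 1, w 2 / w 1, e1, div_ne_zero e2 e1, Or.inr (Or.inl (form e1 fun j => ?_))⟩
    fin_cases j <;> simp [h0, mul_div_cancel₀ _ e1]
  · by_cases h1 : w 1 = 0
    · have e2 : w 2 ≠ 0 := fun h => by
        rw [h1, h, cube hF h0] at hw
        simp at hw
      refine ⟨w 0, w 2 / w 0, h0, div_ne_zero e2 h0, Or.inr (Or.inr (form h0 fun j => ?_))⟩
      fin_cases j <;> simp [h1, mul_div_cancel₀ _ h0]
    · have e2 : w 2 = 0 := by
        by_contra h
        rw [cube hF h0, cube hF h1, cube hF h] at hw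
        exact one_ne_zero (show (1 : F) = 0 by linear_combination hw - h2)
      refine ⟨w 0, w 1 / w 0, h0, div_ne_zero h1 h0, Or.inl (form h0 fun j => ?_)⟩
      fin_cases j <;> simp [e2, mul_div_cancel₀ _ h0]

theorem exists_linear {In : (Fin 3 → F) → F → Prop}
    (hex : ∀ w, hermForm 3 F 2 w w = 0 → w ≠ 0 → ∃ p, In w p)
    (huniq : ∀ w p p', In w p → In w p' → p = p')
    (hsmul : ∀ w p c, c ≠ 0 → In w p → In (c • w) (c * p))
    (hcj : ∀ w w' p p', In w p → In w' p' → hermForm 3 F 2 w' w ≠ 0 →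
      In (w' + hermForm 3 F 2 w' w • w) (p' + hermForm 3 F 2 w' w * p)) :
    ∃ L : Fin 3 → F, ∀ w p, hermForm 3 F 2 w w = 0 → w ≠ 0 →
      (In w p ↔ p = L 0 * w 0 + L 1 * w 1 + L 2 * w 2) := by
  have h2 := two_eq_zero hF
  obtain ⟨r, hr0, hr1, hr⟩ := exists_root hF
  have hne1 : r + 1 ≠ 0 := fun h => hr1 (by linear_combination h - h2)
  have iso : ∀ {a b c : F}, a * a ^ 2 + b * b ^ 2 + c * c ^ 2 = 0 →
      hermForm 3 F 2 ![a, b, c] ![a, b, c] = 0 := fun h => by
    rw [herm_three hF]; simpa using h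
  have nz : ∀ {a b c : F}, a ≠ 0 ∨ b ≠ 0 → (![a, b, c] : Fin 3 → F) ≠ 0 := fun h e =>
    h.elim (fun h => h (congrFun e 0)) fun h => h (congrFun e 1)
  have exA : ∀ l : F, l ≠ 0 → ∃ p, In ![1, l, 0] p := fun l hl =>
    hex _ (iso (by rw [cube hF hl]; linear_combination h2)) (nz (Or.inl one_ne_zero))
  have exB : ∀ l : F, l ≠ 0 → ∃ p, In ![0, 1, l] p := fun l hl =>
    hex _ (iso (by rw [cube hF hl]; linear_combination h2)) (nz (Or.inr one_ne_zero))
  have exC : ∀ l : F, l ≠ 0 → ∃ p, In ![1, 0, l] p := fun l hl =>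
    hex _ (iso (by rw [cube hF hl]; linear_combination h2)) (nz (Or.inl one_ne_zero))
  -- the three points of a line
  have line : ∀ (e e' : Fin 3 → F) (a₁ a₂ : F),
      (∀ l : F, hermForm 3 F 2 (e + r • e') (e + e') = 1 + r) →
      In (e + e') a₁ → In (e + r • e') a₂ →
      In (e + (r + 1) • e') (r * a₁ + (r + 1) * a₂) := by
    intro e e' a₁ a₂ hh h1 hr'
    have h := hcj _ _ _ _ h1 hr' (by rw [hh 1]; rwa [add_comm])
    rw [hh 1] at h
    have h' := hsmul _ _ (r + 1) hne1 h
    convert h' using 1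
    · ext j
      simp only [Pi.add_apply, Pi.smul_apply, smul_eq_mul]
      linear_combination -(e j) * hr - (e j * (2 * r + 1) + e' j * r * (r + 1)) * h2
    · linear_combination -a₁ * hr - (r + 1) * a₁ * h2
  have aff : ∀ (e e' : Fin 3 → F),
      (∀ l : F, hermForm 3 F 2 (e + r • e') (e + e') = 1 + r) →
      (∀ l : F, l ≠ 0 → ∃ p, In (e + l • e') p) →
      ∃ a b : F, ∀ l : F, l ≠ 0 → In (e + l • e') (a + b * l) := by
    intro e e' hh hx
    obtain ⟨a₁, h1⟩ := hx 1 one_ne_zero
    obtain ⟨a₂, h2'⟩ := hx r hr0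
    rw [one_smul] at h1
    refine ⟨a₁ + (a₁ + a₂) * r, (a₁ + a₂) * r, fun l hl => ?_⟩
    rcases elements hF hr hl with e0 | e0 | e0 <;> rw [e0]
    · rw [one_smul]
      convert h1 using 1
      linear_combination (a₁ + a₂) * r * h2
    · convert h2' using 1
      linear_combination (a₁ + a₂) * hr + (a₁ + a₁ * r + a₂ * r) * h2
    · convert line e e' a₁ a₂ hh h1 h2' using 1
      linear_combination (a₁ + a₂) * hr + (a₁ + a₁ * r + a₂ * r) * h2
  let d : Fin 3 → Fin 3 → F := fun i => Pi.single i 1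
  have vA : ∀ l : F, d 0 + l • d 1 = ![1, l, 0] := fun l => by
    ext j; fin_cases j <;> simp [d]
  have vB : ∀ l : F, d 1 + l • d 2 = ![0, 1, l] := fun l => by
    ext j; fin_cases j <;> simp [d]
  have hh : ∀ i j : Fin 3, i ≠ j → ∀ l : F,
      hermForm 3 F 2 (d i + r • d j) (d i + d j) = 1 + r := by
    intro i j hij _
    fin_cases i <;> fin_cases j <;> first | exact absurd rfl hij | (rw [herm_three hF]; simp [d]; try ring)
  obtain ⟨a, b, hA⟩ := aff (d 0) (d 1) (hh 0 1 (by decide)) fun l hl => by rw [vA]; exact exA l hl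
  obtain ⟨g, k, hB⟩ := aff (d 1) (d 2) (hh 1 2 (by decide)) fun l hl => by rw [vB]; exact exB l hl
  have cross : ∀ l m : F, l ≠ 0 → m ≠ 0 → In ![1, 0, l * m] (a + b * l + l * (g + k * m)) := by
    intro l m hl hm
    have hh : hermForm 3 F 2 (![0, 1, m] : Fin 3 → F) ![1, l, 0] = l ^ 2 := by
      rw [herm_three hF]; simp
    have h := hcj _ _ _ _ (vA l ▸ hA l hl) (vB m ▸ hB m hm) (by rw [hh]; exact pow_ne_zero 2 hl)
    rw [hh] at h
    have h' := hsmul _ _ l hl h
    have h3 := cube hF hl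
    convert h' using 1
    · ext j
      fin_cases j <;> simp
      · linear_combination -h3
      · exact Or.inr (by linear_combination h3 + h2)
    · linear_combination -(a + b * l) * h3
  obtain ⟨c, hc⟩ := exC 1 one_ne_zero
  have hbg : g = b := by
    have e1 := huniq _ _ _ (by simpa using cross 1 1 one_ne_zero one_ne_zero) hc
    have e2 := huniq _ _ _
      (by simpa [show r * (r + 1) = 1 by linear_combination hr + r * h2] using
        cross r (r + 1) hr0 hne1) hc
    have e : (r + 1) * (g - b) = 0 := by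
      linear_combination e2 - e1 - k * hr + (g - k * r - r * b) * h2
    exact sub_eq_zero.1 ((mul_eq_zero.1 e).resolve_left hne1)
  refine ⟨![a, b, k], fun w p hw hw0 => ?_⟩
  suffices h : In w (![a, b, k] 0 * w 0 + ![a, b, k] 1 * w 1 + ![a, b, k] 2 * w 2) from
    ⟨fun hp => huniq _ _ _ hp h, fun hp => hp ▸ h⟩
  obtain ⟨c, l, hc0, hl, rfl | rfl | rfl⟩ := isotropic_three hF hw hw0
  · convert hsmul _ _ c hc0 (vA l ▸ hA l hl) using 1
    simp; ring
  · convert hsmul _ _ c hc0 (vB l ▸ hB l hl) using 1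
    simp [hbg]; ring
  · convert hsmul _ _ c hc0 (cross 1 l one_ne_zero hl) using 1
    · simp
    · simp [hbg]
      linear_combination -c * b * h2

end Cfsg.Agent.H80.TTFischer
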