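import Cfsg.Agent.H80.TTFischer.Unitary
import Cfsg.Agent.H80.TTFischer.Sect
import Cfsg.Agent.H80.TTQuad.Models

/-!
Counting isotropic points, and the incidences between the two sides of a member.
-/

set_option autoImplicit false
set_option linter.unusedSectionVars false

namespace Cfsg.Agent.H80.TTFischer

open Cfsg
open Cfsg.Agent.Unitary hiding cj cj_apply cj_cj cj_add cj_smul cj_zero cj_eq_zero
open H76.LocallyS3 (nb)
open H80.TTQuad (B)
open H7Thick.Model

variable {F : Type} [Field F] [Fintype F] (hF : Fintype.card F = 2 ^ 2)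
include hF

theorem ncard_tvq {n : ℕ} (hn : 4 ≤ n) : (tvq n F).ncard * 3 = H52.Un.isoN 2 n := by
  rw [tvq, Set.InjOn.ncard_image, H80.TTQuad.ncard_tv hF hn]
  intro g hg g' hg' e
  obtain ⟨v, c, hv, hc, -, hc0, rfl⟩ := exists_eq_tv_of_isTransvection hF g
    (isTransvection_of_rank_one (g : Matrix.SpecialLinearGroup (Fin n) F).2 hg)
  obtain ⟨v', c', hv', hc', -, hc0', rfl⟩ := exists_eq_tv_of_isTransvection hF g'
    (isTransvection_of_rank_one (g' : Matrix.SpecialLinearGroup (Fin n) F).2 hg')
  obtain rfl := eq_one_of_skew_two hF hc hc0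
  obtain rfl := eq_one_of_skew_two hF hc' hc0'
  exact eq_of_mk_eq hF (by omega) e

/-- The points not orthogonal to a given one. -/
theorem ncard_nonorth {n m : ℕ} (hm : n = m + 2) (hn : 3 ≤ n) {p : PSU n F 2} (hp : p ∈ tvq n F) :
    {q : PSU n F 2 | q ∈ tvq n F ∧ ¬ Commute p q}.ncard = 2 * 4 ^ m := by
  classical
  have h2 := two_eq_zero hF
  obtain ⟨r, hr0, hr1, hr⟩ := exists_root hF
  obtain ⟨u, hu, hu0, rfl⟩ := exists_pt hF hp
  obtain ⟨v, -, hv, hvu⟩ := exists_partner hF (nondeg_top hF) Submodule.mem_top hu0 hu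
  have huv : hermForm n F 2 u v = 1 := by rw [← herm_swap hF v u, hvu, one_pow]
  obtain ⟨f, hinj, hiso, hmem⟩ := exists_residue hF hu hv (by rw [huv]; exact one_ne_zero) hm
  let al : Bool × (Fin m → F) → F := fun t =>
    (if t.1 then 1 else 0) + hermForm m F 2 t.2 t.2 * r
  let z : Bool × (Fin m → F) → (Fin n → F) := fun t => al t • u + v + f t.2
  have hzz : ∀ (a a' : F) (x x' : Fin m → F), hermForm n F 2 (a • u + v + f x) (a' • u + v + f x') =
      a + a' ^ 2 + hermForm m F 2 x x' := fun a a' x x' => by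
    have h := herm_decomp hF hu hv huv hiso hmem a 1 a' 1 x x'
    simpa using h
  have hzu : ∀ (a : F) (x : Fin m → F), hermForm n F 2 (a • u + v + f x) u = 1 := fun a x => by
    rw [herm_add_left, herm_add_left, herm_smul_left, hu, mul_zero, hvu, ((hmem _).2 ⟨x, rfl⟩).1,
      zero_add, add_zero]
  have hzv : ∀ (a : F) (x : Fin m → F), hermForm n F 2 (a • u + v + f x) v = a := fun a x => by
    rw [herm_add_left, herm_add_left, herm_smul_left, huv, mul_one, hv, ((hmem _).2 ⟨x, rfl⟩).2,
      add_zero, add_zero]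
  have hs : ∀ x : Fin m → F, hermForm m F 2 x x = 0 ∨ hermForm m F 2 x x = 1 := fun x => by
    refine eq_zero_or_one hF ?_
    rw [herm_self_fixed hF]
    linear_combination hermForm m F 2 x x * h2
  have hiz : ∀ t, hermForm n F 2 (z t) (z t) = 0 := by
    rintro ⟨b, x⟩
    simp only [z, al, hzz]
    rcases hs x with h | h <;> rw [h] <;> cases b <;> simp
    · linear_combination h2
    · linear_combination hr + (r + 1) * h2
    · linear_combination hr + (2 * r + 2) * h2
  have hz0 : ∀ t, z t ≠ 0 := fun t h => by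
    have := hzu (al t) t.2
    rw [show al t • u + v + f t.2 = z t from rfl, h, herm_zero_left] at this
    exact zero_ne_one this
  let g : Bool × (Fin m → F) → ↥{q : PSU n F 2 | q ∈ tvq n F ∧ ¬ Commute (pt hF u hu) q} :=
    fun t => ⟨pt hF (z t) (hiz t), pt_mem hF (hiz t) (hz0 t), fun h => one_ne_zero <| by
      rw [← hzu (al t) t.2]
      exact (herm_eq_zero_symm hF).1 ((commute_pt hF hn hu (hiz t)).1 h)⟩
  have hg : Function.Bijective g := by
    refine ⟨fun t t' h => ?_, ?_⟩
    · obtain ⟨c, -, e⟩ := (pt_eq_iff hF hn (hiz t) (hiz t') (hz0 t')).1 (congrArg Subtype.val h)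
      have hc : c = 1 := by
        have := congrArg (fun w => hermForm n F 2 w u) e
        simp only [z, hzu, herm_smul_left, mul_one] at this
        exact this.symm
      rw [hc, one_smul] at e
      have ea : al t' = al t := by
        have := congrArg (fun w => hermForm n F 2 w v) e
        simpa only [z, hzv] using this
      have ex : t'.2 = t.2 := by
        apply hinj
        simp only [z, ea] at e
        exact add_left_cancel e
      obtain ⟨b, x⟩ := t
      obtain ⟨b', x'⟩ := t'
      simp only at ex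
      subst ex
      simp only [al, add_left_inj] at ea
      cases b <;> cases b' <;> first | rfl | simp at ea
    · rintro ⟨q, hq, hnq⟩
      obtain ⟨w, hw, hw0, rfl⟩ := exists_pt hF hq
      have hwu : hermForm n F 2 w u ≠ 0 := fun h =>
        hnq ((commute_pt hF hn hu hw).2 ((herm_eq_zero_symm hF).1 h))
      obtain ⟨x, hx⟩ := decomp hF hu hv huv hmem ((hermForm n F 2 w u)⁻¹ • w)
      rw [herm_smul_left _ w u, inv_mul_cancel₀ hwu, one_smul] at hx
      set a := hermForm n F 2 ((hermForm n F 2 w u)⁻¹ • w) v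
      have ha : a + a ^ 2 + hermForm m F 2 x x = 0 := by
        rw [← hzz, ← hx]; exact herm_smul_zero hF hw _
      have hb : ∃ b : Bool, al (b, x) = a := by
        rcases hs x with h | h <;> rw [h] at ha
        · rcases eq_zero_or_one hF (a := a) (by linear_combination ha) with e | e
          · exact ⟨false, by simp [al, h, e]⟩
          · exact ⟨true, by simp [al, h, e]⟩
        · rcases eq_zero_or_one hF (a := a + r)
            (by linear_combination ha + hr + (a * r + r) * h2) with e | e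
          · exact ⟨false, by simp [al, h]; linear_combination r * h2 - e⟩
          · exact ⟨true, by simp [al, h]; linear_combination r * h2 - e⟩
      obtain ⟨b, hb⟩ := hb
      refine ⟨(b, x), Subtype.ext ?_⟩
      refine ((pt_eq_iff hF hn hw (hiz (b, x)) (hz0 _)).2
        ⟨_, inv_ne_zero hwu, ?_⟩).symm
      simp only [z, hb]
      exact hx.symm
  rw [← Nat.card_coe_set_eq, ← Nat.card_eq_of_bijective g hg, Nat.card_prod, Nat.card_fun,
    Nat.card_eq_fintype_card (α := Bool), Fintype.card_bool, Nat.card_eq_fintype_card (α := F), hF,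
    Nat.card_eq_fintype_card (α := Fin m), Fintype.card_fin]
  norm_num

universe u

variable {G : Type u} [Group G] [Finite G] {D : Set G}

/-- The pairs of a neighbour and a further member at it, counted from both sides. -/
theorem URes.double_count {n m : ℕ} (U : URes D F n) (hm : n = m + 2) (hn : 4 ≤ n) {x : G}
    (hx : x ∈ D) {c : ℕ} (hc : ∀ f ∈ D, ¬ Commute x f → (B D x f).ncard = c) :
    ∃ k : ℕ, (tvq n F).ncard * (2 * 4 ^ m) = k * c := by
  classical
  have := Fintype.ofFinite G
  let N : Finset G := Finset.univ.filter fun t => t ∈ nb D x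
  let Z : Finset G := Finset.univ.filter fun f => f ∈ D ∧ ¬ Commute x f
  have key := Finset.sum_card_bipartiteAbove_eq_sum_card_bipartiteBelow
    (s := N) (t := Z) (fun t f => Commute t f)
  have hN : N.card = (tvq n F).ncard := by
    rw [← Nat.card_coe_set_eq, ← Nat.card_congr (U.model hF hn hx).φ, Nat.card_coe_set_eq,
      Set.ncard_eq_toFinset_card']
    congr 1
    ext t; simp [N]
  have h1 : ∀ t ∈ N, (Z.bipartiteAbove (fun t f => Commute t f) t).card = 2 * 4 ^ m := by
    intro t ht
    obtain ⟨-, ht⟩ := Finset.mem_filter.1 ht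
    let M := U.model hF hn ht.1
    have hxt : x ∈ nb D t := ⟨hx, ht.2.1.symm, ht.2.2.symm⟩
    have hS : (Z.bipartiteAbove (fun t f => Commute t f) t : Set G) =
        {f : G | ∃ h : f ∈ nb D t, ¬ Commute x f} := by
      ext f
      simp only [Z, Finset.bipartiteAbove, Finset.coe_filter, Finset.mem_filter, Finset.mem_univ,
        true_and, Set.mem_ofPred_eq]
      constructor
      · rintro ⟨⟨hf, hxf⟩, htf⟩
        exact ⟨⟨hf, fun e => hxf (e ▸ ht.2.2), htf⟩, hxf⟩
      · rintro ⟨h, hxf⟩
        exact ⟨⟨h.1, hxf⟩, h.2.2⟩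
    rw [← Set.ncard_coe_finset, hS, ← ncard_nonorth hF hm (by omega) (M.φ ⟨x, hxt⟩).2,
      ← Nat.card_coe_set_eq, ← Nat.card_coe_set_eq]
    refine Nat.card_eq_of_bijective (fun f => ⟨M.φ ⟨f, f.2.1⟩, (M.φ ⟨f, f.2.1⟩).2,
      fun h => f.2.2 ((M.commute_iff _ _).1 h)⟩) ⟨fun f f' h => ?_, fun q => ?_⟩
    · have h' : M.φ ⟨f, f.2.1⟩ = M.φ ⟨f', f'.2.1⟩ := Subtype.ext
        (congrArg (fun z : ↥{q : PSU n F 2 | q ∈ tvq n F ∧ ¬ Commute (M.φ ⟨x, hxt⟩ : PSU n F 2) q} =>
          (z : PSU n F 2)) h)
      exact Subtype.ext (congrArg (fun z : ↥(nb D t) => (z : G)) (M.φ.injective h'))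
    · obtain ⟨f, hf⟩ := M.φ.surjective ⟨q, q.2.1⟩
      have ef : (M.φ f : PSU n F 2) = q := congrArg Subtype.val hf
      refine ⟨⟨f, f.2, fun h => q.2.2 ?_⟩, Subtype.ext ef⟩
      rw [← ef]
      exact (M.commute_iff ⟨x, hxt⟩ f).2 h
  have h2 : ∀ f ∈ Z, (N.bipartiteBelow (fun t f => Commute t f) f).card = c := by
    intro f hf
    obtain ⟨-, hf, hxf⟩ := Finset.mem_filter.1 hf
    rw [← hc f hf hxf, ← Set.ncard_coe_finset]
    congr 1
    ext t
    simp only [N, Finset.bipartiteBelow, Finset.coe_filter, Finset.mem_filter, Finset.mem_univ,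
      true_and, Set.mem_ofPred_eq]
    exact ⟨fun h => ⟨h.1.1, h.1.2.2.symm, h.2⟩,
      fun h => ⟨⟨h.1, fun e => hxf (e ▸ h.2.2), h.2.1.symm⟩, h.2.2⟩⟩
  rw [Finset.sum_congr rfl h1, Finset.sum_congr rfl h2, Finset.sum_const, Finset.sum_const, hN,
    smul_eq_mul, smul_eq_mul] at key
  exact ⟨Z.card, key⟩

end Cfsg.Agent.H80.TTFischer
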