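import Cfsg.Agent.H80.TTFischer.Unitary
import Cfsg.Agent.H80.TTFischer.Sect

/-!
No class has all residues the class of `U_5(2)`.
-/

set_option autoImplicit false
set_option linter.unusedSectionVars false

namespace Cfsg.Agent.H80.TTFischer

open Cfsg
open Cfsg.Agent.Unitary hiding cj cj_apply cj_cj cj_add cj_smul cj_zero cj_eq_zero
open H76.LocallyS3 (nb cj cj_cj cj_injective commute_cj_iff)
open H80.TTQuad (Cls B cj_one cj_inv_cj cj_cj_inv cj_eq_of_commute commute_of_cj_eq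
  commute_of_mem_closure_nb)
open H7Thick.Model

universe u

variable {F : Type} [Field F] [Fintype F] (hF : Fintype.card F = 2 ^ 2)
include hF

theorem cj_mk_pt {n : ℕ} (γ : SU n F 2) {v : Fin n → F} (hv : hermForm n F 2 v v = 0) :
    cj (QuotientGroup.mk γ : PSU n F 2) (pt hF v hv) =
      pt hF (ap γ v) (by rw [herm_ap]; exact hv) := by
  refine congrArg QuotientGroup.mk ?_
  show γ * tr hF v hv * γ⁻¹ = _
  rw [tr, conj_tv hF γ hv (one_skew_two hF) (by rw [herm_ap]; exact hv)]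
  rfl

/-- Two orthogonal isotropic vectors in three dimensions are proportional. -/
theorem orth_three {y y' : Fin 3 → F} (hy : hermForm 3 F 2 y y = 0) (hy0 : y ≠ 0)
    (hy' : hermForm 3 F 2 y' y' = 0) (hy0' : y' ≠ 0) (h : hermForm 3 F 2 y y' = 0) :
    ∃ c : F, c ≠ 0 ∧ y' = c • y := by
  have h2 := two_eq_zero hF
  obtain ⟨c, l, hc, hl, e⟩ := isotropic_three hF hy hy0
  obtain ⟨c', m, hc', hm, e'⟩ := isotropic_three hF hy' hy0'
  have hlm : 1 + l * m ^ 2 = 0 → l = m := fun e0 => by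
    linear_combination m * e0 - l * cube hF hm - m * h2
  rcases e with rfl | rfl | rfl <;> rcases e' with rfl | rfl | rfl <;>
    rw [herm_smul_left, herm_smul_right] at h <;>
    simp [herm_three hF, hc, hc', hl, hm] at h
  all_goals
    obtain rfl : l = m := hlm h
    exact ⟨c' / c, div_ne_zero hc' hc, by rw [smul_smul, div_mul_cancel₀ _ hc]⟩

theorem four_points : ∃ q : Fin 4 → PSU 3 F 2, Function.Injective q ∧ ∀ i, q i ∈ tvq 3 F := by
  have h2 := two_eq_zero hF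
  obtain ⟨r, hr0, hr1, hr⟩ := exists_root hF
  let v : Fin 4 → Fin 3 → F := ![![1, 1, 0], ![1, r, 0], ![0, 1, 1], ![1, 0, 1]]
  have hv : ∀ i, hermForm 3 F 2 (v i) (v i) = 0 := fun i => by
    fin_cases i <;> simp [v, herm_three hF, cube hF hr0] <;> linear_combination h2
  have hv0 : ∀ i, v i ≠ 0 := fun i e => by
    fin_cases i
    · exact one_ne_zero (congrFun e 0)
    · exact one_ne_zero (congrFun e 0)
    · exact one_ne_zero (congrFun e 1)
    · exact one_ne_zero (congrFun e 0)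
  have hne : ∀ i j, i ≠ j → hermForm 3 F 2 (v i) (v j) ≠ 0 := fun i j hij => by
    fin_cases i <;> fin_cases j <;> first
      | exact absurd rfl hij
      | (simp [v, herm_three hF, hr0]; try (intro e; apply hr1; linear_combination e - h2))
    all_goals
      intro e
      apply hr1
      linear_combination r * e - cube hF hr0 - h2
  refine ⟨fun i => pt hF (v i) (hv i), fun i j e => ?_, fun i => pt_mem hF (hv i) (hv0 i)⟩
  by_contra hij
  refine hne i j hij ((commute_pt hF (le_refl 3) (hv i) (hv j)).1 ?_)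
  exact (congrArg (Commute (pt hF (v i) (hv i))) e) ▸ Commute.refl _

variable {G : Type u} [Group G] [Finite G] {D : Set G}

/-- Three dimensions less: the residue in `B D x f` has no two commuting members. -/
theorem eq_of_commute_local {x f t : G} (φ : ↥(nb (B D x f) t) ≃ ↥(tvq 3 F))
    (hφ : ∀ a b, Commute (φ a : PSU 3 F 2) (φ b) ↔ Commute (a : G) b)
    {s s' : G} (hs : s ∈ nb (B D x f) t) (hs' : s' ∈ nb (B D x f) t) (h : Commute s s') : s = s' := by
  have hc := (hφ ⟨s, hs⟩ ⟨s', hs'⟩).2 h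
  obtain ⟨y, hy, hy0, ey⟩ := exists_pt hF (φ ⟨s, hs⟩).2
  obtain ⟨y', hy', hy0', ey'⟩ := exists_pt hF (φ ⟨s', hs'⟩).2
  rw [ey, ey', commute_pt hF (le_refl 3)] at hc
  have hp : pt hF y hy = pt hF y' hy' :=
    (pt_eq_iff hF (le_refl 3) hy hy' hy0').2 (orth_three hF hy hy0 hy' hy0' hc)
  exact congrArg Subtype.val (φ.injective (Subtype.ext (ey.trans (hp.trans ey'.symm))))

theorem URes.not_five (U : URes D F 5) : False := by
  classical
  have h2 := two_eq_zero hF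
  have h35 : 3 ≤ 5 := by norm_num
  obtain ⟨x, hx⟩ := U.cls.nonempty
  obtain ⟨f, hf, hxf⟩ := U.cls.exists_noncommute hx
  obtain ⟨a, ha⟩ := U.diam x hx f hf hxf
  set T := B D x f
  have hnb : ∀ d ∈ T, d ∈ nb D x := fun d hd =>
    ⟨hd.1, fun e => hxf (e ▸ hd.2.2), hd.2.1.symm⟩
  have hclT : ∀ p ∈ T, ∀ q ∈ T, cj p q ∈ T := fun p hp q hq => by
    refine ⟨U.cls.mem_cj p hq.1, ?_, ?_⟩
    · rw [← cj_eq_of_commute hp.2.1]; exact commute_cj_iff.2 hq.2.1
    · rw [← cj_eq_of_commute hp.2.2]; exact commute_cj_iff.2 hq.2.2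
  have hclS : ∀ t, ∀ p ∈ nb T t, ∀ q ∈ nb T t, cj p q ∈ nb T t := fun t p hp q hq =>
    ⟨hclT p hp.1 q hq.1, (U.cls.cj_mem_nb hp.2.2.symm (⟨hq.1.1, hq.2⟩ : q ∈ nb D t)).2⟩
  let X := U.model hF (by norm_num) hx
  obtain ⟨e, he⟩ := U.exists_local hF (m := 3) (by norm_num) (by norm_num) (le_refl 3) hx hf hxf ha
  -- coordinates at `a`
  obtain ⟨u, hu, hu0, eu⟩ := exists_pt hF (X.φ ⟨a, hnb a ha⟩).2
  obtain ⟨v, -, hv, hvu⟩ := exists_partner hF (nondeg_top hF) Submodule.mem_top hu0 hu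
  have huv : hermForm 5 F 2 u v = 1 := by rw [← herm_swap hF v u, hvu, one_pow]
  obtain ⟨φ3, hinj, hiso, hmem⟩ :=
    exists_residue hF hu hv (by rw [huv]; exact one_ne_zero) (m := 3) rfl
  have hφu : ∀ y, hermForm 5 F 2 (φ3 y) u = 0 ∧ hermForm 5 F 2 (φ3 y) v = 0 :=
    fun y => (hmem _).2 ⟨y, rfl⟩
  have hperp : ∀ z, hermForm 5 F 2 z u = 0 → ∃ y, z = hermForm 5 F 2 z v • u + φ3 y := by
    intro z hz
    obtain ⟨y, hy⟩ := decomp hF hu hv huv hmem z
    exact ⟨y, by rwa [hz, zero_smul, add_zero] at hy⟩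
  have hH : ∀ (p p' : F) (y y' : Fin 3 → F), hermForm 5 F 2 (p • u + φ3 y) (p' • u + φ3 y') = hermForm 3 F 2 y y' := by
    intro p p' y y'
    have h := herm_decomp hF hu hv huv hiso hmem p 0 p' 0 y y'
    simpa using h
  have hIu : ∀ (p : F) (y : Fin 3 → F), hermForm 5 F 2 (p • u + φ3 y) u = 0 := fun p y => by
    rw [herm_add_left, herm_smul_left, hu, mul_zero, (hφu y).1, add_zero]
  -- the vector of a neighbour of `a` in `T`
  have hvec : ∀ s : ↥(nb T a), ∃ (p : F) (y : Fin 3 → F)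
      (hz : hermForm 5 F 2 (p • u + φ3 y) (p • u + φ3 y) = 0), hermForm 3 F 2 y y = 0 ∧ y ≠ 0 ∧
      (X.φ ⟨s, hnb s s.2.1⟩ : PSU 5 F 2) = pt hF _ hz := by
    intro s
    obtain ⟨z, hz, hz0, ez⟩ := exists_pt hF (X.φ ⟨s, hnb s s.2.1⟩).2
    have hzu : hermForm 5 F 2 z u = 0 := by
      refine (commute_pt hF h35 hz hu).1 ?_
      rw [← ez, ← eu]
      exact (X.commute_iff _ _).2 s.2.2.2.symm
    obtain ⟨y, hy⟩ := hperp z hzu
    have hz' : hermForm 5 F 2 (hermForm 5 F 2 z v • u + φ3 y) (hermForm 5 F 2 z v • u + φ3 y) = 0 := by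
      rw [← hy]; exact hz
    refine ⟨_, y, hz', by rwa [hH] at hz', fun h0 => ?_, ez.trans (pt_congr hF hy hz hz')⟩
    rw [h0, map_zero, add_zero] at hy
    have hp : hermForm 5 F 2 z v ≠ 0 := fun h => hz0 (by rw [hy, h, zero_smul])
    have e' : pt hF u hu = pt hF z hz := (pt_eq_iff hF h35 hu hz hz0).2 ⟨_, hp, hy⟩
    refine s.2.2.1 (congrArg (fun q : ↥(nb D x) => (q : G))
      (X.φ.injective (a₁ := ⟨s, hnb s s.2.1⟩) (a₂ := ⟨a, hnb a ha⟩) (Subtype.ext ?_)))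
    rw [ez, eu, e']
  -- they cover every point of the residue
  have heq : ∀ s s' : ↥(nb T a), Commute (s : G) s' → s = s' := fun s s' h =>
    Subtype.ext (eq_of_commute_local hF e he s.2 s'.2 h)
  choose P Y hPY hY hY0 hXs using hvec
  have hsame : ∀ s s', hermForm 3 F 2 (Y s) (Y s') = 0 → s = s' := fun s s' h => heq s s' <| by
    refine (X.commute_iff ⟨s, hnb s s.2.1⟩ ⟨s', hnb s' s'.2.1⟩).1 ?_
    rw [hXs s, hXs s', commute_pt hF h35, hH, h]
  let π : ↥(nb T a) → ↥(tvq 3 F) := fun s => ⟨pt hF (Y s) (hY s), pt_mem hF (hY s) (hY0 s)⟩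
  have hπi : Function.Injective π := fun s s' h => hsame s s' <| by
    refine (commute_pt hF (le_refl 3) (hY s) (hY s')).1 ?_
    have h' : pt hF (Y s) (hY s) = pt hF (Y s') (hY s') := congrArg Subtype.val h
    exact h' ▸ Commute.refl _
  have hπs : Function.Surjective π := by
    have h : Function.Surjective (π ∘ e.symm) :=
      Finite.injective_iff_surjective.1 (hπi.comp e.symm.injective)
    exact h.of_comp
  let In : (Fin 3 → F) → F → Prop := fun w p => w ≠ 0 ∧ ∃ (s : ↥(nb T a))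
    (hz : hermForm 5 F 2 (p • u + φ3 w) (p • u + φ3 w) = 0),
    (X.φ ⟨s, hnb s s.2.1⟩ : PSU 5 F 2) = pt hF _ hz
  have hzero : ∀ (p : F) {w : Fin 3 → F}, w ≠ 0 → p • u + φ3 w ≠ 0 := fun p w hw h => by
    have h' := congrArg (fun z => hermForm 5 F 2 z v) h
    simp only [herm_add_left, herm_smul_left, huv, (hφu w).2, mul_one, add_zero, herm_zero_left] at h'
    rw [h', zero_smul, zero_add] at h
    exact hw (hinj (h.trans (map_zero φ3).symm))
  have hscale : ∀ (c p : F) (w : Fin 3 → F), (c * p) • u + φ3 (c • w) = c • (p • u + φ3 w) :=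
    fun c p w => by rw [smul_add, smul_smul, map_smul]
  obtain ⟨L, hL⟩ := exists_linear hF (In := In)
    (fun w hw hw0 => by
      obtain ⟨s, hs⟩ := hπs ⟨pt hF w hw, pt_mem hF hw hw0⟩
      obtain ⟨c, hc, ec⟩ := (pt_eq_iff hF (le_refl 3) (hY s) hw hw0).1 (congrArg Subtype.val hs)
      refine ⟨c * P s, hw0, s, by rw [ec, hscale]; exact herm_smul_zero hF (hPY s) c, ?_⟩
      refine (hXs s).trans ((pt_eq_iff hF h35 (hPY s) _ (hzero _ hw0)).2 ⟨c, hc, ?_⟩)
      rw [ec, hscale])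
    (fun w p p' h h' => by
      obtain ⟨hw0, s, hz, es⟩ := h
      obtain ⟨-, s', hz', es'⟩ := h'
      have hss : s = s' := heq s s' <| (X.commute_iff ⟨s, hnb s s.2.1⟩ ⟨s', hnb s' s'.2.1⟩).1 <| by
        rw [es, es', commute_pt hF h35, hH]
        rwa [hH] at hz
      subst hss
      obtain ⟨c, -, ec⟩ := (pt_eq_iff hF h35 hz hz' (hzero _ hw0)).1 (es.symm.trans es')
      have h1 := congrArg (fun z => hermForm 5 F 2 z v) ec
      simp only [herm_add_left, herm_smul_left, huv, (hφu w).2, mul_one, add_zero] at h1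
      rw [h1, smul_add, smul_smul, ← map_smul] at ec
      have hw : w = c • w := hinj (add_left_cancel ec)
      have hc : c = 1 := (smul_left_injective F hw0 ((one_smul F w).trans hw)).symm
      rw [h1, hc, one_mul])
    (fun w p c hc h => by
      obtain ⟨hw0, s, hz, es⟩ := h
      refine ⟨smul_ne_zero hc hw0, s, by rw [hscale]; exact herm_smul_zero hF hz c,
        es.trans ((pt_eq_iff hF h35 hz _ (hzero _ (smul_ne_zero hc hw0))).2 ⟨c, hc, hscale c p w⟩)⟩)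
    (fun w w' p p' h h' hne => by
      obtain ⟨hw0, s, hz, es⟩ := h
      obtain ⟨hw0', s', hz', es'⟩ := h'
      have hww : hermForm 3 F 2 w w = 0 := by rwa [hH] at hz
      have hvw : (p' + hermForm 3 F 2 w' w * p) • u + φ3 (w' + hermForm 3 F 2 w' w • w) =
          (p' • u + φ3 w') + hermForm 5 F 2 (p' • u + φ3 w') (p • u + φ3 w) • (p • u + φ3 w) := by
        rw [hH, map_add, map_smul]; module
      refine ⟨fun h0 => hne ?_, ⟨cj (s : G) s', hclS a s s.2 s' s'.2⟩,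
        by rw [hvw]; exact iso_add_cj hF hz hz', ?_⟩
      · have h := congrArg (fun z => hermForm 3 F 2 z w) h0
        simpa [herm_add_left, herm_smul_left, hww] using h
      · rw [X.equivariant ⟨s, hnb s s.2.1⟩ ⟨s', hnb s' s'.2.1⟩, es, es',
          cj_pt hF hz hz' (iso_add_cj hF hz hz')]
        exact pt_congr hF hvw.symm _ _)
  let E : (Fin 3 → F) → (Fin 5 → F) := fun y => (L 0 * y 0 + L 1 * y 1 + L 2 * y 2) • u + φ3 y
  have hEadd : ∀ y y', E (y + y') = E y + E y' := fun y y' => by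
    simp only [E, Pi.add_apply, map_add]; module
  have hEsmul : ∀ (c : F) y, E (c • y) = c • E y := fun c y => by
    simp only [E, Pi.smul_apply, smul_eq_mul, map_smul]; module
  have hEsub : ∀ y y', E (y - y') = E y - E y' := fun y y' => by
    simp only [E, Pi.sub_apply, map_sub]; module
  have hEE : ∀ y y', hermForm 5 F 2 (E y) (E y') = hermForm 3 F 2 y y' := fun y y' => hH _ _ y y'
  have hEmem : ∀ y, hermForm 3 F 2 y y = 0 → y ≠ 0 → ∃ s : ↥(nb T a),
      ∃ hz : hermForm 5 F 2 (E y) (E y) = 0,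
      (X.φ ⟨s, hnb s s.2.1⟩ : PSU 5 F 2) = pt hF (E y) hz := fun y hy hy0 =>
    ((hL y _ hy hy0).2 rfl).2
  have hEs : ∀ s : ↥(nb T a), P s • u + φ3 (Y s) = E (Y s) := fun s => by
    rw [(hL (Y s) (P s) (hY s) (hY0 s)).1 ⟨hY0 s, s, hPY s, hXs s⟩]
  -- the element fixing `a` and `b`
  let y₀ : Fin 3 → F := ![1, 1, 0]
  let r₃ : Fin 3 → F := ![0, 0, 1]
  obtain ⟨r, hr0, hr1, hr⟩ := exists_root hF
  have hy₀ : hermForm 3 F 2 y₀ y₀ = 0 := by
    simp [y₀, herm_three hF]; linear_combination h2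
  obtain ⟨⟨b, hb⟩, hzb, eb⟩ := hEmem y₀ hy₀ fun h => one_ne_zero (congrFun h 0)
  have hspec : ESpec 2 (E y₀) (E r₃) r := by
    refine ⟨hzb, ?_, ?_⟩
    · rw [hEE]; simp [y₀, r₃, herm_three hF]
    · rw [hEE]; simp [r₃, herm_three hF]
      linear_combination hr + (r + 1) * h2
  let γ := eSU hF hspec
  have hγu : ap γ u = u := by
    have e1 : ∀ y, hermForm 5 F 2 u (E y) = 0 := fun y => (herm_eq_zero_symm hF).1 (hIu _ y)
    simp [γ, ap_eSU, e1]
  let A : (Fin 3 → F) → (Fin 3 → F) := fun y => y + hermForm 3 F 2 y y₀ • r₃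
    - hermForm 3 F 2 y r₃ • y₀ + (r * hermForm 3 F 2 y y₀) • y₀
  have hγE : ∀ y, ap γ (E y) = E (A y) := fun y => by
    simp only [γ, A, ap_eSU, hEE, hEadd, hEsub, hEsmul]
  obtain ⟨g, hg⟩ := X.hom_surjective (QuotientGroup.mk γ)
  have hgx : Commute (g : G) x := commute_of_mem_closure_nb g.2
  have himg : ∀ (d : G) (hd : d ∈ nb D x) (z : Fin 5 → F) (hz : hermForm 5 F 2 z z = 0),
      (X.φ ⟨d, hd⟩ : PSU 5 F 2) = pt hF z hz →
      ∃ h : cj (g : G) d ∈ nb D x,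
        (X.φ ⟨cj (g : G) d, h⟩ : PSU 5 F 2) = pt hF (ap γ z) (by rw [herm_ap]; exact hz) := by
    intro d hd z hz ed
    obtain ⟨h, hh⟩ := X.rel_hom g ⟨d, hd⟩
    refine ⟨h, ?_⟩
    rw [hh, hg, ed, cj_mk_pt hF γ hz]
  have hfix : ∀ (d : G) (hd : d ∈ nb D x) (z : Fin 5 → F) (hz : hermForm 5 F 2 z z = 0),
      (X.φ ⟨d, hd⟩ : PSU 5 F 2) = pt hF z hz → ap γ z = z → cj (g : G) d = d := by
    intro d hd z hz ed hzf
    obtain ⟨h, hh⟩ := himg d hd z hz ed
    exact congrArg (fun q : ↥(nb D x) => (q : G)) (X.φ.injective (a₁ := ⟨_, h⟩) (a₂ := ⟨d, hd⟩)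
      (Subtype.ext (hh.trans ((pt_congr hF hzf _ hz).trans ed.symm))))
  have hga : cj (g : G) a = a := hfix a _ u hu eu hγu
  have hgb : cj (g : G) b = b := hfix b _ (E y₀) hzb eb <| by
    rw [hγE]
    congr 1
    simp [A, hy₀]
    simp [y₀, r₃, herm_three hF]
  have hgS : ∀ s : ↥(nb T a), cj (g : G) (s : G) ∈ nb T a := fun s => by
    obtain ⟨h, hh⟩ := himg s (hnb s s.2.1) _ _ ((hXs s).trans
      (pt_congr hF (hEs s) _ (by rw [hEE]; exact hY s)))
    have e2 := hγE (Y s)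
    have hA : hermForm 3 F 2 (A (Y s)) (A (Y s)) = 0 := by
      rw [← hEE, ← e2, herm_ap, hEE]; exact hY s
    have hA0 : A (Y s) ≠ 0 := fun h0 => hY0 s <| by
      rw [h0, show E 0 = 0 by simp [E]] at e2
      have h1 : E (Y s) = 0 := ap_injective γ (e2.trans (ap_zero γ).symm)
      by_contra hne
      exact hzero _ hne h1
    obtain ⟨s', hz, es'⟩ := hEmem _ hA hA0
    have : cj (g : G) (s : G) = s' := congrArg (fun q : ↥(nb D x) => (q : G))
      (X.φ.injective (a₁ := ⟨_, h⟩) (a₂ := ⟨s', hnb s' s'.2.1⟩)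
        (Subtype.ext (hh.trans ((pt_congr hF e2 _ hz).trans es'.symm))))
    rw [this]; exact s'.2
  have hgSs : Function.Surjective (fun s : ↥(nb T a) => (⟨_, hgS s⟩ : ↥(nb T a))) :=
    Finite.injective_iff_surjective.1 fun s s' h =>
      Subtype.ext (cj_injective _ (congrArg Subtype.val h))
  -- `g` preserves `T`
  let M := U.model hF (by norm_num) ha.1
  have hxa : x ∈ nb D a := ⟨hx, fun e' => hxf (e' ▸ ha.2.2), ha.2.1⟩
  have hfa : f ∈ nb D a := ⟨hf, fun e' => hxf (e' ▸ ha.2.1.symm), ha.2.2⟩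
  have hf'a : cj (g : G) f ∈ nb D a := by
    have h := U.cls.cj_nb (g : G) hfa
    rwa [hga] at h
  have hxf' : ¬ Commute x (cj (g : G) f) := fun h => hxf <|
    (commute_cj_iff (g := (g : G))).1 (by rwa [cj_eq_of_commute hgx])
  have hf' : cj (g : G) f = f ∨ cj (g : G) f = cj x f := by
    have h := M.hyp (M.φ ⟨x, hxa⟩) (M.φ ⟨x, hxa⟩).2 (M.φ ⟨f, hfa⟩) (M.φ ⟨f, hfa⟩).2
      (fun h => hxf ((M.commute_iff _ _).1 h)) (M.φ ⟨_, hf'a⟩) (M.φ ⟨_, hf'a⟩).2
      (fun h => hxf' ((M.commute_iff _ _).1 h)) ?_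
    · rcases h with h | h
      · exact Or.inl (congrArg (fun q : ↥(nb D a) => (q : G)) (M.φ.injective (Subtype.ext h)))
      · rw [← M.equivariant] at h
        exact Or.inr (congrArg (fun q : ↥(nb D a) => (q : G)) (M.φ.injective (Subtype.ext h)))
    · intro z hz zx zf
      obtain ⟨z₀, hz₀⟩ := M.φ.surjective ⟨z, hz⟩
      have ez : (M.φ z₀ : PSU 5 F 2) = z := congrArg Subtype.val hz₀
      rw [← ez] at zx zf ⊢
      have hzS : (z₀ : G) ∈ nb T a := ⟨⟨z₀.2.1, (M.commute_iff z₀ ⟨x, hxa⟩).1 zx,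
        (M.commute_iff z₀ ⟨f, hfa⟩).1 zf⟩, z₀.2.2⟩
      obtain ⟨s, hs⟩ := hgSs ⟨z₀, hzS⟩
      refine (M.commute_iff _ _).2 ?_
      show Commute (z₀ : G) (cj (g : G) f)
      rw [← show cj (g : G) (s : G) = z₀ from congrArg Subtype.val hs]
      exact commute_cj_iff.2 s.2.1.2.2
  have hgT : ∀ d ∈ T, cj (g : G) d ∈ T := fun d hd => by
    have h1 : Commute (cj (g : G) d) x := by
      have h := (commute_cj_iff (g := (g : G))).2 hd.2.1
      rwa [cj_eq_of_commute hgx] at h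
    have h2' : Commute (cj (g : G) d) (cj (g : G) f) := commute_cj_iff.2 hd.2.2
    refine ⟨U.cls.mem_cj _ hd.1, h1, ?_⟩
    rcases hf' with h | h <;> rw [h] at h2'
    · exact h2'
    · refine (commute_cj_iff (g := x)).1 ?_
      rwa [cj_eq_of_commute h1.symm]
  -- the neighbours of `b`
  obtain ⟨eb', heb'⟩ := U.exists_local hF (m := 3) (by norm_num) (by norm_num) (le_refl 3) hx hf hxf hb.1
  have hab : a ∈ nb T b := ⟨ha, hb.2.1.symm, hb.2.2.symm⟩
  have hN : ∀ c ∈ nb T b, c ≠ a → ∃ (z : Fin 5 → F) (hz : hermForm 5 F 2 z z = 0),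
      (∀ hc : c ∈ nb D x, (X.φ ⟨c, hc⟩ : PSU 5 F 2) = pt hF z hz) ∧ hermForm 5 F 2 z u = 1 ∧
      hermForm 5 F 2 z (E y₀) = 0 ∧ hermForm 5 F 2 z (E r₃) = 0 := by
    intro c hc hca
    obtain ⟨z, hz, hz0, ez⟩ := exists_pt hF (X.φ ⟨c, hnb c hc.1⟩).2
    have hzu : hermForm 5 F 2 z u ≠ 0 := fun h => by
      refine hca (eq_of_commute_local hF eb' heb' hc hab ?_)
      refine (X.commute_iff ⟨c, hnb c hc.1⟩ ⟨a, hnb a ha⟩).1 ?_
      rw [ez, eu, commute_pt hF h35]; exact h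
    have hzb0 : hermForm 5 F 2 z (E y₀) = 0 := by
      refine (commute_pt hF h35 hz hzb).1 ?_
      rw [← ez, ← eb]
      exact (X.commute_iff _ _).2 hc.2.2.symm
    set k := (hermForm 5 F 2 z u)⁻¹
    have hz1 := herm_smul_zero hF hz k
    have ek : (X.φ ⟨c, hnb c hc.1⟩ : PSU 5 F 2) = pt hF (k • z) hz1 :=
      ez.trans (pt_smul hF hz hz1 (inv_ne_zero hzu)).symm
    have hkb : hermForm 5 F 2 (k • z) (E y₀) = 0 := by rw [herm_smul_left, hzb0, mul_zero]
    have hku : hermForm 5 F 2 (k • z) u = 1 := by rw [herm_smul_left, inv_mul_cancel₀ hzu]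
    refine ⟨k • z, hz1, fun _ => ek, hku, hkb, ?_⟩
    obtain ⟨h, hh⟩ := himg c _ _ hz1 ek
    have hγz : ap γ (k • z) = k • z - hermForm 5 F 2 (k • z) (E r₃) • E y₀ := by
      simp only [γ, ap_eSU, hkb, mul_zero, zero_smul, add_zero]
    have hgc : cj (g : G) c ∈ nb T b := by
      refine ⟨hgT c hc.1, ?_⟩
      have h' := (U.cls.cj_nb (g : G) (⟨hc.1.1, hc.2⟩ : c ∈ nb D b)).2
      rwa [hgb] at h'
    have hfx : cj (g : G) c = c := by
      refine eq_of_commute_local hF eb' heb' hgc hc ?_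
      refine (X.commute_iff ⟨_, h⟩ ⟨c, hnb c hc.1⟩).1 ?_
      rw [hh, ek, commute_pt hF h35, hγz, herm_sub_left, hz1,
        herm_smul_left (hermForm 5 F 2 (k • z) (E r₃)) (E y₀) (k • z),
        (herm_eq_zero_symm hF).1 hkb, mul_zero, sub_zero]
    have hp : pt hF (k • z) hz1 = pt hF (ap γ (k • z)) (by rw [herm_ap]; exact hz1) := by
      rw [← ek, ← hh]
      exact congrArg Subtype.val (congrArg X.φ (Subtype.ext hfx.symm))
    have hne : ap γ (k • z) ≠ 0 := fun h0 => by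
      have h1 : k • z = 0 := ap_injective γ (h0.trans (ap_zero γ).symm)
      rw [h1, herm_zero_left] at hku
      exact zero_ne_one hku
    obtain ⟨l, -, hl⟩ := (pt_eq_iff hF h35 hz1 _ hne).1 hp
    rw [hγz] at hl
    have hl1 := congrArg (fun q => hermForm 5 F 2 q u) hl
    simp only [herm_sub_left, herm_smul_left (u := E y₀), herm_smul_left (u := k • z), hku,
      hIu, E, mul_zero, sub_zero, mul_one] at hl1
    rw [← hl1, one_smul, sub_eq_self] at hl
    refine (smul_eq_zero.1 hl).resolve_right (hzero _ fun h => ?_)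
    exact one_ne_zero (congrFun h 0)
  have hpair : ∀ (c c' : G) (hc : c ∈ nb T b) (hc' : c' ∈ nb T b), c ≠ c' →
      ∀ (z z' : Fin 5 → F) (hz : hermForm 5 F 2 z z = 0) (hz' : hermForm 5 F 2 z' z' = 0),
      (X.φ ⟨c, hnb c hc.1⟩ : PSU 5 F 2) = pt hF z hz →
      (X.φ ⟨c', hnb c' hc'.1⟩ : PSU 5 F 2) = pt hF z' hz' →
      hermForm 5 F 2 z u = 1 → hermForm 5 F 2 z' u = 1 →
      hermForm 5 F 2 z (E y₀) = 0 → hermForm 5 F 2 z' (E y₀) = 0 →
      hermForm 5 F 2 z (E r₃) = 0 → hermForm 5 F 2 z' (E r₃) = 0 →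
      ∃ μ : F, z' - z = u + μ • E y₀ := by
    intro c c' hc hc' hcc z z' hz hz' ec ec' hu1 hu1' hb1 hb1' hr1' hr1''
    have hdu : hermForm 5 F 2 (z' - z) u = 0 := by rw [herm_sub_left, hu1, hu1', sub_self]
    obtain ⟨y, hy⟩ := hperp _ hdu
    set p := hermForm 5 F 2 (z' - z) v
    have hEy : hermForm 5 F 2 (z' - z) (E y₀) = hermForm 3 F 2 y y₀ := by rw [hy]; exact hH _ _ _ _
    have hEr : hermForm 5 F 2 (z' - z) (E r₃) = hermForm 3 F 2 y r₃ := by rw [hy]; exact hH _ _ _ _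
    rw [herm_sub_left, hb1, hb1', sub_zero] at hEy
    rw [herm_sub_left, hr1', hr1'', sub_zero] at hEr
    simp [y₀, herm_three hF] at hEy
    simp [r₃, herm_three hF] at hEr
    have hyy : y = y 0 • y₀ := by
      ext j; fin_cases j <;> simp [y₀]
      · linear_combination -hEy - y 0 * h2
      · exact hEr.symm
    set q := p - y 0 * (L 0 + L 1)
    have hdec : z' - z = q • u + y 0 • E y₀ := by
      rw [hy, ← hEsmul, ← hyy]
      simp only [q, E, ← hEr]
      rw [show y 1 = y 0 by linear_combination -hEy - y 0 * h2]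
      module
    suffices hq1 : q = 1 from ⟨y 0, by rw [hdec, hq1, one_smul]⟩
    have hz'' : z' = z + (q • u + y 0 • E y₀) := by rw [← hdec]; abel
    have huz : hermForm 5 F 2 u z = 1 := by rw [← herm_swap hF z u, hu1, one_pow]
    have hzz' : hermForm 5 F 2 z' z = q := by
      rw [hz'', herm_add_left, hz, herm_add_left, herm_smul_left, huz, herm_smul_left,
        (herm_eq_zero_symm hF).1 hb1]
      ring
    have hqq : q + q ^ 2 = 0 := by
      have h := hz'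
      rw [hz'', herm_self_add hF] at h
      have e0 : hermForm 5 F 2 (q • u + y 0 • E y₀) (q • u + y 0 • E y₀) = 0 := by
        have euE : hermForm 5 F 2 u (E y₀) = 0 := (herm_eq_zero_symm hF).1 (hIu _ _)
        rw [herm_self_add hF, herm_self_smul, herm_self_smul, hu, hzb, herm_smul_left,
          herm_smul_right, euE]
        simp
      have e1 : hermForm 5 F 2 z (q • u + y 0 • E y₀) = q ^ 2 := by
        simp [herm_add_right hF, herm_smul_right, hu1, hb1]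
      rw [hz, e0, e1, pow_q_q hF] at h
      linear_combination h
    refine (eq_zero_or_one hF hqq).resolve_left fun h0 => ?_
    refine hcc (eq_of_commute_local hF eb' heb' hc hc' ?_)
    refine ((X.commute_iff ⟨c', hnb c' hc'.1⟩ ⟨c, hnb c hc.1⟩).1 ?_).symm
    rw [ec', ec, commute_pt hF h35, hzz', h0]
  obtain ⟨pts, hpi, hpm⟩ := four_points hF
  have hcard : 2 < ((Finset.univ.image fun i => ((eb'.symm ⟨pts i, hpm i⟩ : ↥(nb T b)) : G)).erase a).card := by
    have h := Finset.pred_card_le_card_erase (a := a)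
      (s := Finset.univ.image fun i => ((eb'.symm ⟨pts i, hpm i⟩ : ↥(nb T b)) : G))
    rw [Finset.card_image_of_injective _ fun i j e' => hpi (congrArg Subtype.val
      (eb'.symm.injective (Subtype.ext e'))), Finset.card_univ, Fintype.card_fin] at h
    omega
  obtain ⟨c₁, h₁, c₂, h₂, c₃, h₃, n12, n13, n23⟩ := Finset.two_lt_card.1 hcard
  have hget : ∀ c, c ∈ (Finset.univ.image fun i => ((eb'.symm ⟨pts i, hpm i⟩ : ↥(nb T b)) : G)).erase a →
      c ∈ nb T b ∧ c ≠ a := fun c hc => by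
    obtain ⟨hca, hc'⟩ := Finset.mem_erase.1 hc
    obtain ⟨i, -, rfl⟩ := Finset.mem_image.1 hc'
    exact ⟨(eb'.symm ⟨pts i, hpm i⟩).2, hca⟩
  obtain ⟨m₁, a₁⟩ := hget _ h₁
  obtain ⟨m₂, a₂⟩ := hget _ h₂
  obtain ⟨m₃, a₃⟩ := hget _ h₃
  obtain ⟨z₁, k₁, e₁, u₁, b₁, r₁⟩ := hN _ m₁ a₁
  obtain ⟨z₂, k₂, e₂, u₂, b₂, r₂⟩ := hN _ m₂ a₂
  obtain ⟨z₃, k₃, e₃, u₃, b₃, r₃'⟩ := hN _ m₃ a₃
  obtain ⟨μ12, d12⟩ := hpair _ _ m₁ m₂ n12 _ _ k₁ k₂ (e₁ _) (e₂ _) u₁ u₂ b₁ b₂ r₁ r₂
  obtain ⟨μ13, d13⟩ := hpair _ _ m₁ m₃ n13 _ _ k₁ k₃ (e₁ _) (e₃ _) u₁ u₃ b₁ b₃ r₁ r₃'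
  obtain ⟨μ23, d23⟩ := hpair _ _ m₂ m₃ n23 _ _ k₂ k₃ (e₂ _) (e₃ _) u₂ u₃ b₂ b₃ r₂ r₃'
  have h := congrArg (fun z => hermForm 5 F 2 z z₁)
    (show z₃ - z₁ = (z₂ - z₁) + (z₃ - z₂) by abel)
  have hu₁ : hermForm 5 F 2 u z₁ = 1 := by rw [← herm_swap hF z₁ u, u₁, one_pow]
  rw [d12, d13, d23] at h
  simp only [herm_add_left, herm_smul_left, hu₁, (herm_eq_zero_symm hF).1 b₁, mul_zero, add_zero] at h
  exact one_ne_zero (show (1 : F) = 0 by linear_combination -h)

end Cfsg.Agent.H80.TTFischer
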