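import Mathlib

/-!
Tables: the isotropic points of the class of `U_4(2)` against the vectors of norm one of a five
dimensional space over the field with three elements.
-/

set_option autoImplicit false

namespace Cfsg.Agent.H80.TTFischer

/-- Addition in the field with four elements, coded by `0, 1, r, r + 1`. -/
def ga : Fin 4 → Fin 4 → Fin 4 :=
  ![![0, 1, 2, 3], ![1, 0, 3, 2], ![2, 3, 0, 1], ![3, 2, 1, 0]]

/-- Multiplication. -/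
def gm : Fin 4 → Fin 4 → Fin 4 :=
  ![![0, 0, 0, 0], ![0, 1, 2, 3], ![0, 2, 3, 1], ![0, 3, 1, 2]]

/-- The isotropic points. -/
def uPts : Fin 45 → Fin 4 → Fin 4 :=
  ![![0, 0, 1, 1],
    ![0, 0, 1, 2],
    ![0, 0, 1, 3],
    ![0, 1, 0, 1],
    ![0, 1, 0, 2],
    ![0, 1, 0, 3],
    ![0, 1, 1, 0],
    ![0, 1, 2, 0],
    ![0, 1, 3, 0],
    ![1, 0, 0, 1],
    ![1, 0, 0, 2],
    ![1, 0, 0, 3],
    ![1, 0, 1, 0],
    ![1, 0, 2, 0],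
    ![1, 0, 3, 0],
    ![1, 1, 0, 0],
    ![1, 1, 1, 1],
    ![1, 1, 1, 2],
    ![1, 1, 1, 3],
    ![1, 1, 2, 1],
    ![1, 1, 2, 2],
    ![1, 1, 2, 3],
    ![1, 1, 3, 1],
    ![1, 1, 3, 2],
    ![1, 1, 3, 3],
    ![1, 2, 0, 0],
    ![1, 2, 1, 1],
    ![1, 2, 1, 2],
    ![1, 2, 1, 3],
    ![1, 2, 2, 1],
    ![1, 2, 2, 2],
    ![1, 2, 2, 3],
    ![1, 2, 3, 1],
    ![1, 2, 3, 2],
    ![1, 2, 3, 3],
    ![1, 3, 0, 0],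
    ![1, 3, 1, 1],
    ![1, 3, 1, 2],
    ![1, 3, 1, 3],
    ![1, 3, 2, 1],
    ![1, 3, 2, 2],
    ![1, 3, 2, 3],
    ![1, 3, 3, 1],
    ![1, 3, 3, 2],
    ![1, 3, 3, 3]]

/-- The vectors of norm one. -/
def oPts : Fin 45 → Fin 5 → ZMod 3 :=
  ![![0, 0, 0, 0, 1],
    ![1, 1, 1, 0, 1],
    ![1, 1, 1, 0, 2],
    ![1, 2, 0, 1, 2],
    ![1, 0, 2, 2, 1],
    ![0, 1, 2, 1, 2],
    ![1, 2, 0, 1, 1],
    ![1, 0, 2, 2, 2],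
    ![0, 1, 2, 1, 1],
    ![1, 2, 0, 2, 2],
    ![1, 0, 2, 1, 1],
    ![0, 1, 2, 2, 2],
    ![1, 2, 0, 2, 1],
    ![1, 0, 2, 1, 2],
    ![0, 1, 2, 2, 1],
    ![0, 0, 0, 1, 0],
    ![0, 0, 1, 0, 0],
    ![1, 2, 2, 0, 1],
    ![1, 2, 1, 0, 1],
    ![1, 2, 2, 0, 2],
    ![0, 1, 0, 0, 0],
    ![1, 1, 2, 0, 2],
    ![1, 2, 1, 0, 2],
    ![1, 1, 2, 0, 1],
    ![1, 0, 0, 0, 0],
    ![1, 1, 1, 1, 0],
    ![1, 2, 1, 2, 0],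
    ![1, 1, 0, 1, 1],
    ![0, 1, 1, 1, 2],
    ![1, 1, 0, 1, 2],
    ![1, 2, 2, 1, 0],
    ![1, 0, 1, 1, 1],
    ![0, 1, 1, 1, 1],
    ![1, 0, 1, 1, 2],
    ![1, 1, 2, 2, 0],
    ![1, 1, 1, 2, 0],
    ![1, 2, 2, 2, 0],
    ![1, 0, 1, 2, 1],
    ![1, 1, 0, 2, 2],
    ![1, 0, 1, 2, 2],
    ![1, 1, 2, 1, 0],
    ![0, 1, 1, 2, 1],
    ![1, 1, 0, 2, 1],
    ![0, 1, 1, 2, 2],
    ![1, 2, 1, 1, 0]]

/-- The Hermitian product of coded vectors. -/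
def uDot (u v : Fin 4 → Fin 4) : Fin 4 :=
  ga (ga (ga (gm (u 0) (gm (v 0) (v 0))) (gm (u 1) (gm (v 1) (v 1)))) (gm (u 2) (gm (v 2) (v 2))))
    (gm (u 3) (gm (v 3) (v 3)))

/-- The inner product. -/
def oDot (u v : Fin 5 → ZMod 3) : ZMod 3 :=
  u 0 * v 0 + u 1 * v 1 + u 2 * v 2 + u 3 * v 3 + u 4 * v 4

theorem oPts_norm : ∀ i, oDot (oPts i) (oPts i) = 1 := by decide +kernel

theorem uPts_iso : ∀ i, uDot (uPts i) (uPts i) = 0 := by decide +kernel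

theorem uPts_ne : ∀ i, ∃ k, uPts i k ≠ 0 := by decide +kernel

theorem table_iff : ∀ i j,
    uDot (uPts i) (uPts j) = 0 ↔ (i = j ∨ oDot (oPts i) (oPts j) = 0) := by decide +kernel

theorem uPts_inj : ∀ i j, ∀ k : Fin 4, k ≠ 0 → (∀ l, uPts j l = gm k (uPts i l)) → i = j := by
  decide +kernel

theorem oPts_inj : ∀ i j, ((∀ l, oPts j l = oPts i l) ∨ (∀ l, oPts j l = -oPts i l)) → i = j := by
  decide +kernel

theorem uPts_cover : ∀ a b c d : Fin 4, uDot ![a, b, c, d] ![a, b, c, d] = 0 →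
    (a = 0 ∧ b = 0 ∧ c = 0 ∧ d = 0) ∨
      ∃ i, ∃ k : Fin 4, k ≠ 0 ∧ ∀ l, ![a, b, c, d] l = gm k (uPts i l) := by
  decide +kernel

theorem oPts_cover : ∀ a b c d e : ZMod 3, oDot ![a, b, c, d, e] ![a, b, c, d, e] = 1 →
    ∃ i, (∀ l, ![a, b, c, d, e] l = oPts i l) ∨ ∀ l, ![a, b, c, d, e] l = -oPts i l := by
  decide +kernel

end Cfsg.Agent.H80.TTFischer
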