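import Cfsg.Agent.H80.TTFischer.Sect
import Cfsg.Agent.H80.TTFischer.FourTables
import Cfsg.Agent.H97.Refl3.Class

/-!
`PSU_4(2)` with its transvections is a projective reflection group in five dimensions over the
field with three elements.
-/

set_option autoImplicit false
set_option linter.unusedSectionVars false

namespace Cfsg.Agent.H80.TTFischer

open Cfsg QuadraticMap
open Cfsg.Agent.Unitary hiding cj cj_apply cj_cj cj_add cj_smul cj_zero cj_eq_zero Nondeg
open H76.LocallyS3 (cj)
open H80.TTQuad (Cls)
open H7Thick.Model (tvq cls_tvq)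
open H7Fischer (refl3 IsoTo IsOrthThree IsUnit psuTv)

variable {F : Type} [Field F]

/-- The value of a code. -/
def code (r : F) : Fin 4 → F := ![0, 1, r, r + 1]

/-- The vector of a coded vector. -/
def codeVec (r : F) (u : Fin 4 → Fin 4) : Fin 4 → F := fun l => code r (u l)

/-- The form `Σ xᵢ²`. -/
noncomputable def sumSq : QuadraticForm (ZMod 3) (Fin 5 → ZMod 3) :=
  QuadraticMap.weightedSumSquares (ZMod 3) fun _ : Fin 5 => (1 : ZMod 3)

theorem sumSq_apply (x : Fin 5 → ZMod 3) : sumSq x = oDot x x := by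
  simp [sumSq, oDot, QuadraticMap.weightedSumSquares_apply, Fin.sum_univ_five]

theorem polar_sumSq (x y : Fin 5 → ZMod 3) : polar sumSq x y = 2 * oDot x y := by
  simp only [QuadraticMap.polar, sumSq_apply, oDot, Pi.add_apply]
  ring

theorem nondeg_sumSq : Cfsg.Agent.Orthogonal.Nondeg sumSq := by
  intro x hx
  funext k
  have h := hx (Pi.single k 1)
  rw [polar_sumSq] at h
  have h' := (mul_eq_zero.1 h).resolve_left (by decide)
  fin_cases k <;> simpa [oDot] using h'

theorem det_sumSq : Cfsg.polarGramDet (⇑sumSq) = -1 := by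
  unfold Cfsg.polarGramDet
  rw [show (Matrix.of fun i j : Fin 5 => polar sumSq (Pi.single i 1) (Pi.single j 1)) =
      Matrix.diagonal fun _ : Fin 5 => (2 : ZMod 3) by
    ext i j
    rw [Matrix.of_apply, polar_sumSq]
    fin_cases i <;> fin_cases j <;> simp [oDot]]
  rw [Matrix.det_diagonal]
  decide

variable [Fintype F] (hF : Fintype.card F = 2 ^ 2)
include hF

section Code

variable {r : F} (hr : r * r = r + 1)
include hr

theorem code_add (a b : Fin 4) : code r (ga a b) = code r a + code r b := by
  have h2 := two_eq_zero hF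
  fin_cases a <;> fin_cases b <;> simp [code, ga] <;>
    first
      | linear_combination (0 : F)
      | linear_combination -h2
      | linear_combination h2
      | linear_combination -r * h2
      | linear_combination -(r + 1) * h2

theorem code_mul (a b : Fin 4) : code r (gm a b) = code r a * code r b := by
  have h2 := two_eq_zero hF
  fin_cases a <;> fin_cases b <;> simp [code, gm] <;>
    first
      | linear_combination -hr
      | linear_combination -hr - r * h2
      | linear_combination -hr - (r + 1) * h2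

theorem code_dot (u v : Fin 4 → Fin 4) :
    code r (uDot u v) = hermForm 4 F 2 (codeVec r u) (codeVec r v) := by
  simp only [uDot, code_add hF hr, code_mul hF hr, hermForm, codeVec, Fin.sum_univ_four]
  ring

theorem code_eq_zero {a : Fin 4} : code r a = 0 ↔ a = 0 := by
  have h2 := two_eq_zero hF
  have hr0 : r ≠ 0 := fun h => by rw [h] at hr; simp at hr
  have hr1 : r + 1 ≠ 0 := fun h => by
    have e : r = 1 := by linear_combination h - h2
    rw [e] at hr
    exact one_ne_zero (show (1 : F) = 0 by linear_combination -hr)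
  refine ⟨fun h => ?_, fun h => by rw [h]; simp [code]⟩
  fin_cases a <;> simp [code, hr0, hr1] at h ⊢

theorem code_surjective (x : F) : ∃ a, code r a = x := by
  by_cases hx : x = 0
  · exact ⟨0, by simp [code, hx]⟩
  rcases elements hF hr hx with rfl | rfl | rfl
  exacts [⟨1, rfl⟩, ⟨2, rfl⟩, ⟨3, rfl⟩]

theorem code_injective : Function.Injective (code r) := fun a b h => by
  have h0 : code r (ga a b) = 0 := by
    rw [code_add hF hr, h]
    linear_combination code r b * two_eq_zero hF
  exact (show ∀ a b : Fin 4, ga a b = 0 → a = b by decide) a b ((code_eq_zero hF hr).1 h0)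

end Code

/-- The transvections of `PSU_4(2)` form the reflections of one norm in five dimensions. -/
theorem isoTo_four : IsoTo (psuTv 4 F) (refl3 sumSq 1) := by
  obtain ⟨r, -, -, hr⟩ := exists_root hF
  have H := cls_tvq (F := F) (n := 4) hF le_rfl
  have hQ := nondeg_sumSq
  have hc : (1 : ZMod 3) ≠ 0 := one_ne_zero
  have H' := H97.Refl3.cls_refl3 hQ hc (le_refl 5)
  have h34 : 3 ≤ 4 := by norm_num
  have hu : ∀ i, hermForm 4 F 2 (codeVec r (uPts i)) (codeVec r (uPts i)) = 0 := fun i => by
    rw [← code_dot hF hr, uPts_iso, code_eq_zero hF hr]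
  have hu0 : ∀ i, codeVec r (uPts i) ≠ 0 := fun i h => by
    obtain ⟨k, hk⟩ := uPts_ne i
    exact hk ((code_eq_zero hF hr).1 (congrFun h k))
  have ho : ∀ i, sumSq (oPts i) = 1 := fun i => by rw [sumSq_apply, oPts_norm]
  let f : Fin 45 → ↥(tvq 4 F) := fun i =>
    ⟨H7Thick.Model.pt hF _ (hu i), H7Thick.Model.pt_mem hF (hu i) (hu0 i)⟩
  have hf : Function.Bijective f := by
    refine ⟨fun i j h => ?_, fun p => ?_⟩
    · obtain ⟨c, hc0, e⟩ := (H7Thick.Model.pt_eq_iff hF h34 (hu i) (hu j) (hu0 j)).1
        (congrArg Subtype.val h)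
      obtain ⟨k, rfl⟩ := code_surjective hF hr c
      refine uPts_inj i j k (fun h0 => hc0 (by rw [h0]; simp [code])) fun l => ?_
      refine code_injective hF hr ?_
      rw [code_mul hF hr]
      exact congrFun e l
    · obtain ⟨v, hv, hv0, ep⟩ := H7Thick.Model.exists_pt hF p.2
      obtain ⟨a, ha⟩ := code_surjective hF hr (v 0)
      obtain ⟨b, hb⟩ := code_surjective hF hr (v 1)
      obtain ⟨c, hc⟩ := code_surjective hF hr (v 2)
      obtain ⟨d, hd⟩ := code_surjective hF hr (v 3)
      have ev : codeVec r ![a, b, c, d] = v := funext fun l => by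
        fin_cases l <;> simp [codeVec, ha, hb, hc, hd]
      rcases uPts_cover a b c d ((code_eq_zero hF hr).1 (by rw [code_dot hF hr, ev, hv])) with
        ⟨rfl, rfl, rfl, rfl⟩ | ⟨i, k, hk, hi⟩
      · refine absurd ?_ hv0
        rw [← ev]
        funext l
        fin_cases l <;> simp [codeVec, code]
      · refine ⟨i, Subtype.ext ?_⟩
        rw [ep]
        refine (H7Thick.Model.pt_eq_iff hF h34 (hu i) hv hv0).2
          ⟨code r k, fun h0 => hk ((code_eq_zero hF hr).1 h0), ?_⟩
        rw [← ev]
        funext l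
        rw [codeVec, hi, code_mul hF hr]
        rfl
  let g : Fin 45 → ↥(refl3 sumSq 1) := fun i => ⟨H97.Refl3.pt (ho i), H97.Refl3.pt_mem _⟩
  have hg : Function.Bijective g := by
    refine ⟨fun i j h => ?_, fun p => ?_⟩
    · refine oPts_inj i j ?_
      rcases (H97.Refl3.pt_eq_iff hQ hc (le_refl 5) (ho i) (ho j)).1 (congrArg Subtype.val h) with e | e
      · exact Or.inl fun l => congrFun e l
      · exact Or.inr fun l => congrFun e l
    · obtain ⟨w, hw, ep⟩ := H97.Refl3.exists_pt p.2
      have ew : ![w 0, w 1, w 2, w 3, w 4] = w := funext fun l => by fin_cases l <;> rfl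
      obtain ⟨i, hi⟩ := oPts_cover (w 0) (w 1) (w 2) (w 3) (w 4)
        (by rw [ew, ← sumSq_apply]; exact hw)
      rw [ew] at hi
      refine ⟨i, Subtype.ext ?_⟩
      rw [← ep]
      refine (H97.Refl3.pt_eq_iff hQ hc (le_refl 5) (ho i) hw).2 ?_
      exact hi.imp (fun e => funext e) fun e => funext e
  let φ := (Equiv.ofBijective f hf).symm.trans (Equiv.ofBijective g hg)
  have hφ : ∀ a b, Commute (φ a : H97.Refl3.PGrp sumSq 1) (φ b) ↔ Commute (a : Cfsg.PSU 4 F 2) b := by
    intro a b
    obtain ⟨i, rfl⟩ := (Equiv.ofBijective f hf).surjective a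
    obtain ⟨j, rfl⟩ := (Equiv.ofBijective f hf).surjective b
    simp only [φ, Equiv.trans_apply, Equiv.symm_apply_apply]
    show Commute (H97.Refl3.pt (ho i)) (H97.Refl3.pt (ho j)) ↔
      Commute (H7Thick.Model.pt hF _ (hu i)) (H7Thick.Model.pt hF _ (hu j))
    rw [H97.Refl3.commute_pt hQ hc (le_refl 5), H7Thick.Model.commute_pt hF h34, ← code_dot hF hr,
      code_eq_zero hF hr, table_iff, polar_sumSq, mul_eq_zero,
      or_iff_right (show (2 : ZMod 3) ≠ 0 by decide)]
    constructor
    · rintro (h | h | h)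
      · exact Or.inr h
      · exact Or.inl (oPts_inj i j (Or.inl fun l => congrFun h l))
      · exact Or.inl (oPts_inj i j (Or.inr fun l => congrFun h l))
    · rintro (h | h)
      · exact Or.inr (Or.inl (by rw [h]))
      · exact Or.inl h
  exact H7Fischer.isoTo_of_equivariant H.cl.2.2 H'.cl.2.2 (fun g => H.eq_one_of_fix)
    (fun g => H'.eq_one_of_fix) (fun a ha => H.sq ha) (fun a ha => H'.sq ha)
    (fun a _ b hb => H.mem_cj a hb) φ
    (H7Thick.graph_equivariant H H' (H97.Refl3.hypUnique_refl3 hQ hc (le_refl 5)) φ hφ)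

omit hF in
/-- `U_4(2)` is the reflection group in five dimensions with discriminant `-c`. -/
theorem unit_four_orth {G : Type*} [Group G] {D : Set G} (h : IsUnit D 4) :
    ∃ c, IsOrthThree D 5 (-c) c := by
  obtain ⟨K, iK, iKf, hK, he⟩ := h
  exact ⟨1, sumSq, nondeg_sumSq.polarBilin, det_sumSq, one_ne_zero,
    he.trans (isoTo_four (hK.trans (by norm_num)))⟩

end Cfsg.Agent.H80.TTFischer
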