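import Cfsg.Agent.H7Thick.Graph
import Cfsg.Agent.H80.TTFischer.Loc

/-!
A closed set of 3-transpositions whose commuting graph is that of a class generates, modulo its
centre, the group of that class.
-/

set_option autoImplicit false
set_option linter.unusedSectionVars false

namespace Cfsg.Agent.H80.TTFischer

open Cfsg
open H76.LocallyS3 (nb cj cj_cj cj_injective commute_cj_iff)
open H80.TTQuad (Cls cj_one cj_inv_cj cj_cj_inv cj_eq_of_commute commute_of_cj_eq)
open H7Thick (HypUnique)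

universe u v

variable {G : Type u} [Group G] {E : Set G} {G' : Type v} [Group G'] {D' : Set G'}

/-- The data: a closed set of 3-transpositions and an isomorphism of its commuting graph. -/
structure GraphModel (E : Set G) (D' : Set G') where
  tt : Cfsg.IsThreeTranspositionSet E
  closed : ∀ a ∈ E, ∀ b ∈ E, cj a b ∈ E
  cls : Cls D'
  hyp : HypUnique D'
  φ : ↥E ≃ ↥D'
  commute_iff : ∀ a b : ↥E, Commute (φ a : G') (φ b) ↔ Commute (a : G) b

namespace GraphModel

variable (M : GraphModel E D')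
include M

theorem equivariant (a b : ↥E) :
    (M.φ ⟨cj (a : G) b, M.closed a a.2 b b.2⟩ : G') = cj (M.φ a : G') (M.φ b) := by
  by_cases h : Commute (a : G) b
  · rw [cj_eq_of_commute ((M.commute_iff a b).2 h)]
    exact congrArg Subtype.val (congrArg M.φ (Subtype.ext (cj_eq_of_commute h)))
  · set c : ↥E := ⟨cj (a : G) b, M.closed a a.2 b b.2⟩
    have hbraid : cj (a : G) b = cj (b : G) a := by
      simp only [cj, H44.tt_inv M.tt a.2, H44.tt_inv M.tt b.2]
      exact H44.tt_braid M.tt a.2 b.2 h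
    have hbc : ¬ Commute (b : G) c := by
      intro hc
      refine h (commute_cj_iff (g := (b : G)) |>.1 ?_)
      rw [cj_eq_of_commute (Commute.refl (b : G)), ← hbraid]
      exact hc.symm
    have hac : ¬ Commute (a : G) c := by
      intro hc
      refine h (commute_cj_iff (g := (a : G)) |>.1 ?_)
      rw [cj_eq_of_commute (Commute.refl (a : G))]
      exact hc
    have hres := M.hyp (M.φ a) (M.φ a).2 (M.φ b) (M.φ b).2 (fun q => h ((M.commute_iff a b).1 q))
      (M.φ c) (M.φ c).2 (fun q => hac ((M.commute_iff a c).1 q)) fun z hz za zb => ?_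
    · rcases hres with e | e
      · exfalso
        have e' : c = b := M.φ.injective (Subtype.ext e)
        refine hbc ?_
        rw [show (c : G) = b from congrArg Subtype.val e']
      · exact e
    · obtain ⟨z₀, hz₀⟩ := M.φ.surjective ⟨z, hz⟩
      have ez : (M.φ z₀ : G') = z := congrArg Subtype.val hz₀
      rw [← ez] at za zb ⊢
      refine (M.commute_iff z₀ c).2 ?_
      show Commute (z₀ : G) (cj (a : G) b)
      rw [← cj_eq_of_commute ((M.commute_iff z₀ a).1 za).symm]
      exact commute_cj_iff.2 ((M.commute_iff z₀ b).1 zb)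

/-- The elements of the generated group and their images. -/
def Rel (g : G) (g' : G') : Prop :=
  ∀ z : ↥E, ∃ h : cj g (z : G) ∈ E, (M.φ ⟨cj g (z : G), h⟩ : G') = cj g' (M.φ z)

theorem rel_one : M.Rel 1 1 := fun z =>
  ⟨by rw [cj_one]; exact z.2, by
    rw [cj_one (M.φ z : G')]
    exact congrArg Subtype.val (congrArg M.φ (Subtype.ext (cj_one (z : G))))⟩

theorem rel_mul {g k : G} {g' k' : G'} (hg : M.Rel g g') (hk : M.Rel k k') :
    M.Rel (g * k) (g' * k') := fun z => by
  obtain ⟨h1, e1⟩ := hk z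
  obtain ⟨h2, e2⟩ := hg ⟨_, h1⟩
  refine ⟨by rw [← cj_cj]; exact h2, ?_⟩
  rw [← cj_cj g' k', ← e1, ← e2]
  exact congrArg Subtype.val (congrArg M.φ (Subtype.ext (cj_cj _ _ _).symm))

theorem rel_gen (a : ↥E) : M.Rel (a : G) (M.φ a) := fun z =>
  ⟨M.closed a a.2 z z.2, M.equivariant a z⟩

theorem exists_rel {g : G} (hg : g ∈ Subgroup.closure E) : ∃ g' : G', M.Rel g g' := by
  refine Subgroup.closure_induction_left (p := fun g _ => ∃ g' : G', M.Rel g g') ⟨1, M.rel_one⟩
    (fun a ha y _ ih => ?_) (fun a ha y _ ih => ?_) hg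
  · obtain ⟨y', hy⟩ := ih
    exact ⟨_, M.rel_mul (M.rel_gen ⟨a, ha⟩) hy⟩
  · obtain ⟨y', hy⟩ := ih
    rw [H44.tt_inv M.tt ha]
    exact ⟨_, M.rel_mul (M.rel_gen ⟨a, ha⟩) hy⟩

theorem rel_unique {g : G} {g' g'' : G'} (h1 : M.Rel g g') (h2 : M.Rel g g'') : g' = g'' := by
  have hfix : g'⁻¹ * g'' = 1 := M.cls.eq_one_of_fix fun d hd => by
    obtain ⟨z, hz⟩ := M.φ.surjective ⟨d, hd⟩
    obtain ⟨q, e1⟩ := h1 z
    obtain ⟨_, e2⟩ := h2 z
    have ez : (M.φ z : G') = d := congrArg Subtype.val hz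
    rw [ez] at e1 e2
    rw [← cj_cj, ← e2, e1, cj_inv_cj]
  exact inv_mul_eq_one.1 hfix

/-- The projection to the model. -/
noncomputable def hom : ↥(Subgroup.closure E) →* G' :=
  MonoidHom.mk' (fun g => Classical.choose (M.exists_rel g.2)) fun g k =>
    M.rel_unique (Classical.choose_spec (M.exists_rel (g * k).2))
      (M.rel_mul (Classical.choose_spec (M.exists_rel g.2)) (Classical.choose_spec (M.exists_rel k.2)))

theorem rel_hom (g : ↥(Subgroup.closure E)) : M.Rel (g : G) (M.hom g) :=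
  Classical.choose_spec (M.exists_rel g.2)

theorem hom_apply (a : ↥E) : M.hom ⟨a, Subgroup.subset_closure a.2⟩ = M.φ a :=
  M.rel_unique (M.rel_hom ⟨a, Subgroup.subset_closure a.2⟩) (M.rel_gen a)

theorem hom_surjective : Function.Surjective M.hom := by
  rw [← MonoidHom.range_eq_top, eq_top_iff, ← M.cls.cl.2.2, Subgroup.closure_le]
  exact fun b hb => ⟨_, (M.hom_apply _).trans (congrArg Subtype.val (M.φ.apply_symm_apply ⟨b, hb⟩))⟩

theorem ker_hom : M.hom.ker = Subgroup.center ↥(Subgroup.closure E) := by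
  refine le_antisymm (fun g hg => Subgroup.mem_center_iff.2 fun k => Subtype.ext ?_) fun g hg => ?_
  · have hfix : ∀ z ∈ E, cj (g : G) z = z := fun z hz => by
      obtain ⟨h, e⟩ := M.rel_hom g ⟨z, hz⟩
      rw [MonoidHom.mem_ker.1 hg, cj_one] at e
      exact congrArg Subtype.val (M.φ.injective (Subtype.ext e))
    have hle : Subgroup.closure E ≤ Subgroup.centralizer ({(g : G)} : Set G) :=
      (Subgroup.closure_le _).2 fun t ht =>
        Subgroup.mem_centralizer_singleton_iff.2 (commute_of_cj_eq (hfix t ht)).eq.symm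
    exact Subgroup.mem_centralizer_singleton_iff.1 (hle k.2)
  · refine MonoidHom.mem_ker.2 (M.rel_unique (M.rel_hom g) fun z => ?_)
    have hz : cj (g : G) (z : G) = z := cj_eq_of_commute
      (congrArg Subtype.val (Subgroup.mem_center_iff.1 hg ⟨z, Subgroup.subset_closure z.2⟩)).symm
    refine ⟨by rw [hz]; exact z.2, ?_⟩
    rw [cj_one (M.φ z : G')]
    exact congrArg Subtype.val (congrArg M.φ (Subtype.ext hz))

/-- The group generated by `E` modulo its centre is the model. -/
theorem nonempty_equiv :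
    Nonempty (↥(Subgroup.closure E) ⧸ Subgroup.center ↥(Subgroup.closure E) ≃* G') :=
  ⟨(QuotientGroup.quotientMulEquivOfEq M.ker_hom.symm).trans
    (QuotientGroup.quotientKerEquivOfSurjective M.hom M.hom_surjective)⟩

theorem reduced : Reduced E := by
  intro N hle hn hs a ha b hb hab
  let ι : ↥N →* ↥(Subgroup.closure E) := Subgroup.inclusion hle
  let P : Subgroup G' := ι.range.map M.hom
  have hP : P = ⊥ := by
    refine M.cls.sol P (Subgroup.Normal.map ⟨?_⟩ _ M.hom_surjective) ?_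
    · rintro _ ⟨n, rfl⟩ g
      exact ⟨⟨cj (g : G) n, hn g g.2 n n.2⟩, rfl⟩
    · exact Group.isSolvable_of_surjective (f := (M.hom.subgroupMap ι.range).comp ι.rangeRestrict)
        ((MonoidHom.subgroupMap_surjective _ _).comp ι.rangeRestrict_surjective)
  have h : M.hom (ι ⟨a * b, hab⟩) = 1 := by
    rw [← Subgroup.mem_bot, ← hP]
    exact ⟨_, ⟨⟨a * b, hab⟩, rfl⟩, rfl⟩
  have e : ι ⟨a * b, hab⟩ = ⟨a, Subgroup.subset_closure ha⟩ * ⟨b, Subgroup.subset_closure hb⟩ := rfl
  rw [e, map_mul, M.hom_apply ⟨a, ha⟩, M.hom_apply ⟨b, hb⟩, mul_eq_one_iff_eq_inv,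
    M.cls.inv' (M.φ ⟨b, hb⟩).2] at h
  exact congrArg Subtype.val (M.φ.injective (Subtype.ext h))

theorem conj (a b : ↥E) : ∃ g ∈ Subgroup.closure E, cj g (a : G) = b := by
  obtain ⟨g', hg'⟩ := M.cls.exists_cj (M.φ a).2 (M.φ b).2
  obtain ⟨g, rfl⟩ := M.hom_surjective g'
  obtain ⟨h, e⟩ := M.rel_hom g a
  rw [hg'] at e
  exact ⟨g, g.2, congrArg Subtype.val (M.φ.injective (Subtype.ext e))⟩

end GraphModel

end Cfsg.Agent.H80.TTFischer
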