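import Cfsg.Agent.H80.TTFischer.Simple
import Cfsg.Agent.S0440
import Cfsg.Agent.S5346
import Cfsg.Agent.H7Fischer.Disconnected

/-!
Fischer's theorem from the classification of the classes with central local cores: width one,
local cores that are not central (symmetric of degree five, symplectic, unitary), and the rest.
-/

set_option autoImplicit false
set_option linter.unusedSectionVars false

namespace Cfsg.Agent.H80.TTFischer

open Cfsg QuadraticMap
open scoped MatrixGroups Matrix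
open H76.LocallyS3 (nb cj)
open H80.TTQuad (Cls)
open H7Fischer (refl3 swaps orthTv symTv psuTv IsSym IsSymp IsUnit IsOrthTwo IsOrthThree IsFischerType Central Conn IsoTo)

universe u

variable {G : Type u} [Group G] [Finite G] {D : Set G}

/-- An involution of degree five outside the alternating group is a transposition. -/
theorem isSwap_of_odd_five {σ : Equiv.Perm (Fin 5)} (h : orderOf σ = 2)
    (hs : Equiv.Perm.sign σ = -1) : σ.IsSwap := by
  have : Fact (Nat.Prime 2) := ⟨Nat.prime_two⟩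
  obtain ⟨n, hn⟩ := Equiv.Perm.cycleType_prime_order (σ := σ) (by rw [h]; exact Nat.prime_two)
  rw [h] at hn
  have hle := σ.sum_cycleType
  have hsup := Finset.card_le_univ σ.support
  rw [hn, Multiset.sum_replicate, smul_eq_mul] at hle
  rw [Fintype.card_fin] at hsup
  have hsig := Equiv.Perm.sign_of_cycleType σ
  rw [hn, hs, Multiset.sum_replicate, smul_eq_mul, Multiset.card_replicate] at hsig
  have hn0 : n = 0 := by
    rcases (show n = 0 ∨ n = 1 by omega) with h0 | h1
    · exact h0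
    · subst h1; norm_num at hsig
  subst hn0
  exact Equiv.Perm.card_support_eq_two.1 (by omega)

/-- A class of three-transpositions of the symmetric group of degree five is that of the
transpositions. -/
theorem isSym_of_five (hD : Cfsg.IsThreeTranspositionClass D)
    (e : G ≃* Equiv.Perm (Fin 5)) : IsSym D := by
  refine ⟨5, le_rfl, e, ?_⟩
  obtain ⟨hT, ⟨d, hd, hDd⟩, hgen⟩ := hD
  have hs : Equiv.Perm.sign (e d) = -1 := by
    refine (Int.units_eq_one_or _).resolve_left fun h1 => ?_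
    have htop : alternatingGroup (Fin 5) = ⊤ := by
      rw [eq_top_iff, ← Subgroup.map_top_of_surjective e.toMonoidHom e.surjective, ← hgen,
        MonoidHom.map_closure, Subgroup.closure_le]
      rintro _ ⟨a, ha, rfl⟩
      rw [hDd] at ha
      obtain ⟨g, rfl⟩ := isConj_iff.1 ha
      refine Equiv.Perm.mem_alternatingGroup.2 ?_
      simp [h1]
    have := alternatingGroup.index_eq_two (α := Fin 5)
    rw [htop, Subgroup.index_top] at this
    omega
  have hsw := isSwap_of_odd_five (σ := e d) ((MulEquiv.orderOf_eq e d).trans (hT.1 d hd)) hs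
  ext σ
  constructor
  · rintro ⟨a, ha, rfl⟩
    rw [hDd] at ha
    obtain ⟨g, rfl⟩ := isConj_iff.1 ha
    obtain ⟨i, j, hij, he⟩ := hsw
    exact ⟨e g i, e g j, fun h => hij ((e g).injective h), by
      rw [map_mul, map_mul, map_inv, he, Equiv.swap_apply_apply]⟩
  · rintro ⟨i, j, hij, rfl⟩
    obtain ⟨k, l, hkl, he⟩ := hsw
    obtain ⟨c, hc⟩ := isConj_iff.1 (Equiv.Perm.isConj_swap hkl hij)
    refine ⟨e.symm c * d * (e.symm c)⁻¹, hDd ▸ isConj_iff.2 ⟨e.symm c, rfl⟩, ?_⟩
    rw [map_mul, map_mul, map_inv, e.apply_symm_apply, he]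
    exact hc

/-- Classes of three-transpositions containing a member in common are equal. -/
theorem class_ext {D' : Set G} (hD : Cfsg.IsThreeTranspositionClass D)
    (hD' : Cfsg.IsThreeTranspositionClass D') {a : G} (ha : a ∈ D) (ha' : a ∈ D') : D = D' := by
  obtain ⟨-, ⟨d, -, rfl⟩, -⟩ := hD
  obtain ⟨-, ⟨d', -, rfl⟩, -⟩ := hD'
  exact Set.ext fun x => ⟨fun hx => ((show IsConj d' a from ha').trans (show IsConj d a from ha).symm).trans hx,
    fun hx => ((show IsConj d a from ha).trans (show IsConj d' a from ha').symm).trans hx⟩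

/-- The image of a class under an isomorphism. -/
theorem class_image {K : Type*} [Group K] (hD : Cfsg.IsThreeTranspositionClass D) (e : G ≃* K) :
    Cfsg.IsThreeTranspositionClass (e '' D) := by
  obtain ⟨⟨h1, h2⟩, ⟨d, hd, hDd⟩, hgen⟩ := hD
  refine ⟨⟨?_, ?_⟩, ⟨e d, ⟨d, hd, rfl⟩, ?_⟩, ?_⟩
  · rintro _ ⟨a, ha, rfl⟩
    rw [MulEquiv.orderOf_eq]
    exact h1 a ha
  · rintro _ ⟨a, ha, rfl⟩ _ ⟨b, hb, rfl⟩
    rcases h2 a ha b hb with h | h
    · left; rw [← map_mul, ← map_pow, h, map_one]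
    · right; rw [← map_mul, ← map_pow, h, map_one]
  · ext x
    constructor
    · rintro ⟨a, ha, rfl⟩
      rw [hDd] at ha
      exact e.toMonoidHom.map_isConj (show IsConj d a from ha)
    · intro hx
      refine ⟨e.symm x, ?_, e.apply_symm_apply x⟩
      rw [hDd]
      have := e.symm.toMonoidHom.map_isConj (show IsConj (e d) x from hx)
      simpa [conjugatesOf] using this
  · have := congrArg (Subgroup.map e.toMonoidHom) hgen
    rwa [MonoidHom.map_closure, Subgroup.map_top_of_surjective e.toMonoidHom e.surjective] at this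

/-- Lines of three points: the members are the symplectic transvections. -/
theorem isSymp_of_three (P : H80.TTPolar.Polar D)
    (h3 : ∀ p ∈ D, ∀ q ∈ nb D p, (H80.TTPolar.Ln D p q).ncard = 3) : IsSymp D := by
  obtain ⟨m, e, he⟩ := P.exists_sp_class h3
  refine ⟨m, e, ?_⟩
  obtain ⟨d, hd, -⟩ := P.cl.2.1
  obtain ⟨w, hw, hew⟩ := he d hd
  have hrk : e d ∈ symTv m := by
    show ((e d : Matrix (Fin m ⊕ Fin m) (Fin m ⊕ Fin m) (ZMod 2)) - 1).rank = 1
    rw [hew]
    show (Cfsg.sympTransvection m w 1 - 1).rank = 1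
    rw [Cfsg.sympTransvection, add_sub_cancel_left, one_smul]
    refine le_antisymm (Matrix.rank_vecMulVec_le _ _) (Nat.one_le_iff_ne_zero.2 fun h => ?_)
    rw [Matrix.rank, Submodule.finrank_eq_zero, LinearMap.range_eq_bot] at h
    replace h : Matrix.vecMulVec w (Matrix.J (Fin m) (ZMod 2) *ᵥ w) = 0 :=
      Matrix.ext fun i j => by
        have := congrFun (LinearMap.congr_fun h (Pi.single j 1)) i
        simpa using this
    rw [Matrix.vecMulVec_eq_zero] at h
    refine h.elim hw fun hJ => hw ?_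
    have := congrArg (Matrix.J (Fin m) (ZMod 2) *ᵥ ·) hJ
    simpa [Matrix.mulVec_mulVec, Matrix.J_squared, Matrix.neg_mulVec] using this
  have hm : 1 ≤ m := by
    by_contra h
    obtain rfl : m = 0 := by omega
    exact hw (funext fun i => by rcases i with i | i <;> exact i.elim0)
  exact class_ext (class_image P.cl e) (S0440.result m hm) ⟨d, hd, rfl⟩ hrk

/-- The three transpositions of degree three. -/
theorem swaps_three :
    swaps 3 = {Equiv.swap 0 1, Equiv.swap 0 2, Equiv.swap 1 2} ∧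
      ∀ u ∈ swaps 3, ∀ v ∈ swaps 3, ∀ w ∈ swaps 3,
        (u * u = 1 ∧ (u ≠ v → w ≠ u → w ≠ v → w = cj u v)) := by
  have h : swaps 3 = {Equiv.swap 0 1, Equiv.swap 0 2, Equiv.swap 1 2} := by
    ext σ
    simp only [swaps, Equiv.Perm.IsSwap, Set.mem_setOf_eq, Set.mem_insert_iff, Set.mem_singleton_iff]
    revert σ
    decide
  refine ⟨h, ?_⟩
  rw [h]
  simp only [cj, Set.forall_mem_insert, Set.mem_singleton_iff, forall_eq]
  repeat' apply And.intro
  all_goals decide

theorem perm_three_fix :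
    ∀ g : Equiv.Perm (Fin 3), g * Equiv.swap 0 1 * g⁻¹ = Equiv.swap 0 1 →
      g * Equiv.swap 0 2 * g⁻¹ = Equiv.swap 0 2 → g = 1 := by
  decide

/-- Width one with simple derived group: the symmetric group of degree three. -/
theorem isoTo_three (hD : Cfsg.IsThreeTranspositionClass D) (hZ : Subgroup.center G = ⊥)
    (hS : IsSimpleGroup (commutator G)) (hw : ¬ ∃ a ∈ D, ∃ b ∈ D, a ≠ b ∧ Commute a b) :
    IsoTo D (swaps 3) := by
  classical
  push Not at hw
  obtain ⟨d, hd, hDd⟩ := hD.2.1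
  have hinv : ∀ a ∈ D, a * a = 1 := fun a ha => H44.tt_mul_self hD.1 ha
  have hcen : ∀ g : G, (∀ a ∈ D, cj g a = a) → g = 1 := by
    intro g hg
    refine Subgroup.mem_bot.1 (hZ ▸ Subgroup.mem_center_iff.2 fun x => ?_)
    have hx : x ∈ Subgroup.closure D := hD.2.2 ▸ Subgroup.mem_top x
    refine (Subgroup.closure_induction (p := fun x _ => Commute x g)
      (fun a ha => (show Commute a g from (mul_inv_eq_iff_eq_mul.1 (hg a ha)).symm))
      (Commute.one_left g) (fun _ _ _ _ h h' => h.mul_left h') (fun _ _ h => h.inv_left) hx)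
  have hwidth : Cfsg.commutingWidth D = 1 := by
    set A : Set ℕ :=
      {n : ℕ | ∃ E : Set G, E ⊆ D ∧ E.Finite ∧ (∀ a ∈ E, ∀ b ∈ E, Commute a b) ∧ E.ncard = n}
    have h1A : 1 ∈ A := ⟨{d}, Set.singleton_subset_iff.mpr hd, Set.finite_singleton d,
      fun a ha b hb => by simp only [Set.mem_singleton_iff] at ha hb; rw [ha, hb], Set.ncard_singleton d⟩
    have hle : ∀ n ∈ A, n ≤ 1 := by
      rintro n ⟨E, hED, hEf, hEc, rfl⟩
      rw [Set.ncard_le_one hEf]
      exact fun a ha b hb => by_contra fun h => hw a (hED ha) b (hED hb) h (hEc a ha b hb)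
    exact le_antisymm (csSup_le ⟨1, h1A⟩ hle) (le_csSup ⟨1, hle⟩ h1A)
  have htop := (S5346.result ⟨hD.1, fun g a ha => H44.tt_invariant hD g ha, hD.2.2⟩ hd).1 hwidth
  have : Fact (Nat.Prime 3) := ⟨Nat.prime_three⟩
  have hn3 : (Cfsg.pCore 3 G).Normal := Subgroup.sSup_normal _ fun N hN => hN.1
  have hc3 : commutator G ≤ Cfsg.pCore 3 G :=
    hn3.commutator_le_of_self_sup_commutative_eq_top
      (by rw [sup_comm]; exact htop) inferInstance
  have hp : IsPGroup 3 ↥(commutator G) := Cores.pCore_isPGroup.to_le hc3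
  have hab : ∀ a b : ↥(commutator G), a * b = b * a := by
    have := hp.center_nontrivial
    have ht : Subgroup.center ↥(commutator G) = ⊤ :=
      (Subgroup.Normal.eq_bot_or_eq_top inferInstance).resolve_left
        ((Subgroup.nontrivial_iff_ne_bot _).1 this)
    exact fun a b => (Subgroup.mem_center_iff.1 (ht ▸ Subgroup.mem_top b) a)
  have hcard : Nat.card ↥(commutator G) = 3 := by
    let _ : CommGroup ↥(commutator G) :=
      { (inferInstance : Group ↥(commutator G)) with mul_comm := hab }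
    have hpr : (Nat.card ↥(commutator G)).Prime := IsSimpleGroup.prime_card
    obtain ⟨k, hk⟩ := hp.exists_card_eq
    rw [hk] at hpr ⊢
    rw [(Nat.Prime.eq_one_of_pow hpr), pow_one]
  have hDle : D.ncard ≤ 3 := by
    rw [← hcard]
    change D.ncard ≤ Nat.card ↥(commutator G : Set G)
    rw [Nat.card_coe_set_eq]
    refine Set.ncard_le_ncard_of_injOn (fun a => d⁻¹ * a) ?_ (fun a _ b _ h => mul_left_cancel h)
      (Set.toFinite _)
    intro a ha
    rw [hDd] at ha
    obtain ⟨g, rfl⟩ := isConj_iff.1 ha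
    have := Subgroup.commutator_mem_commutator (Subgroup.mem_top d⁻¹) (Subgroup.mem_top g)
    simpa [commutator_def, commutatorElement_def, mul_assoc] using this
  -- the three members
  have hne2 : ∃ b ∈ D, b ≠ d := by
    by_contra h
    push Not at h
    refine H44.tt_ne_one hD.1 hd (hcen d fun a ha => ?_)
    rw [h a ha]
    simp [cj]
  obtain ⟨b, hb, hbd⟩ := hne2
  have h3 : ∀ x ∈ D, ∀ y ∈ D, x ≠ y → cj x y ∈ D ∧ cj x y ≠ x ∧ cj x y ≠ y := by
    intro x hx y hy hxy
    refine ⟨H44.tt_invariant hD x hy, fun h => hxy ?_, fun h => hw x hx y hy hxy (mul_inv_eq_iff_eq_mul.1 h)⟩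
    have h' := congrArg (fun z => x⁻¹ * z * x) h
    simpa [cj, mul_assoc] using h'.symm
  obtain ⟨m1, m2, m3⟩ := h3 d hd b hb hbd.symm
  have hDcard : D.ncard = 3 := by
    refine le_antisymm hDle ?_
    rw [← Set.ncard_eq_three.2 ⟨d, b, cj d b, hbd.symm, m2.symm, m3.symm, rfl⟩]
    exact Set.ncard_le_ncard (by simp [Set.insert_subset_iff, hd, hb, m1]) (Set.toFinite _)
  obtain ⟨hS3, hS3'⟩ := swaps_three
  have hScard : (swaps 3).ncard = 3 := by
    rw [hS3]
    exact Set.ncard_eq_three.2 ⟨_, _, _, by decide, by decide, by decide, rfl⟩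
  have hkey : ∀ u ∈ swaps 3, ∀ v ∈ swaps 3, u ≠ v →
      ∀ w ∈ swaps 3, w ≠ u → w ≠ v → w = cj u v :=
    fun u hu v hv huv w hw' => (hS3' u hu v hv w hw').2 huv
  have hfix3 : ∀ g : Equiv.Perm (Fin 3), (∀ a ∈ swaps 3, cj g a = a) → g = 1 := fun g hg =>
    perm_three_fix g (hg _ (by rw [hS3]; simp)) (hg _ (by rw [hS3]; simp))
  have hsq3 : ∀ a ∈ swaps 3, a * a = 1 := fun a ha => (hS3' a ha a ha a ha).1
  obtain ⟨φ⟩ : Nonempty (↥D ≃ ↥(swaps 3)) :=
    Finite.card_eq.1 (by rw [Nat.card_coe_set_eq, Nat.card_coe_set_eq, hDcard, hScard])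
  refine H7Fischer.isoTo_of_equivariant hD.2.2 Equiv.Perm.closure_isSwap hcen hfix3 hinv hsq3
    (fun a _ b hb => H44.tt_invariant hD a hb) φ fun a b => ?_
  by_cases hab' : a = b
  · subst hab'
    have e1 : cj (a : G) a = a := by simp [cj]
    have e2 : cj (φ a : Equiv.Perm (Fin 3)) (φ a) = φ a := by simp [cj]
    rw [e2]
    exact congrArg Subtype.val (congrArg φ (Subtype.ext e1))
  · obtain ⟨n1, n2, n3⟩ := h3 a a.2 b b.2 fun h => hab' (Subtype.ext h)
    refine hkey _ (φ a).2 _ (φ b).2 (fun h => hab' (φ.injective (Subtype.ext h))) _ (φ _).2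
      (fun h => n2 ?_) (fun h => n3 ?_)
    · exact congrArg Subtype.val (φ.injective (Subtype.ext h))
    · exact congrArg Subtype.val (φ.injective (Subtype.ext h))

/-- Fischer's theorem from the classification of the classes with central local cores. -/
theorem fischer_classify (hM : MainClass D) (hD : Cfsg.IsThreeTranspositionClass D)
    (hZ : Subgroup.center G = ⊥) (hsimple : IsSimpleGroup (commutator G)) :
    (∃ n : ℕ, IsoTo D (swaps n)) ∨ IsSymp D ∨
      (∃ (n : ℕ) (F : Type) (_ : Field F) (_ : Fintype F), Fintype.card F = 4 ∧ IsoTo D (psuTv n F)) ∨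
      ((∃ m : ℕ, IsoTo D (orthTv (Cfsg.quadFormPlus m (ZMod 2)))) ∨
        ∃ m : ℕ, IsoTo D (orthTv (Cfsg.quadFormMinus m (ZMod 2) 1 1))) ∨
      (∃ n : ℕ, ∃ Q : QuadraticForm (ZMod 3) (Fin n → ZMod 3),
        (QuadraticMap.polarBilin Q).Nondegenerate ∧ ∃ c : ZMod 3, c ≠ 0 ∧ IsoTo D (refl3 Q c)) ∨
      IsFischerType D := by
  by_cases hw : ∃ a ∈ D, ∃ b ∈ D, a ≠ b ∧ Commute a b
  swap
  · exact Or.inl ⟨3, isoTo_three hD hZ hsimple hw⟩
  obtain ⟨hiff, hiff2⟩ := S5361.result hD hZ hw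
  have hprim := hiff.1 hsimple
  have hgrp : Cfsg.IsThreeTranspositionGroup D :=
    ⟨hD.1, fun g d hd => H44.tt_invariant hD g hd, hD.2.2⟩
  have H : Cls D := H7Fischer.cls_of_primitive hgrp hprim hZ hw
  have hperf2 : ⁅commutator G, commutator G⁆ = commutator G := by
    obtain ⟨a, b, hab⟩ := H7Fischer.commutator_nonabelian H
    have htop : commutator ↥(commutator G) = ⊤ :=
      (inferInstance : (commutator ↥(commutator G)).Normal).eq_bot_or_eq_top.resolve_left fun h =>
        hab (commutatorElement_eq_one_iff_mul_comm.1 (Subgroup.mem_bot.1 (h ▸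
          Subgroup.commutator_mem_commutator (Subgroup.mem_top a) (Subgroup.mem_top b))))
    have := congrArg (Subgroup.map (commutator G).subtype) htop
    rwa [commutator_def ↥(commutator G), Subgroup.map_commutator, ← MonoidHom.range_eq_map,
      Subgroup.range_subtype] at this
  obtain ⟨x, hx⟩ := H.nonempty
  by_cases h3 : Cfsg.pCore 3 ↥(Subgroup.closure {y : G | y ∈ D ∧ y ≠ x ∧ Commute x y}) ≤
      Subgroup.center ↥(Subgroup.closure {y : G | y ∈ D ∧ y ≠ x ∧ Commute x y})
  swap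
  · have hodd : Cfsg.pCore 3 ↥(Subgroup.closure {y : G | y ∈ D ∧ y ≠ x ∧ Commute x y}) ≤
        Cfsg.oddCore ↥(Subgroup.closure {y : G | y ∈ D ∧ y ≠ x ∧ Commute x y}) := by
      refine Cores.le_oddCore ?_
      have : Fact (Nat.Prime 3) := ⟨Nat.prime_three⟩
      obtain ⟨k, hk⟩ := (Cores.pCore_isPGroup (p := 3) (G := ↥(Subgroup.closure
        {y : G | y ∈ D ∧ y ≠ x ∧ Commute x y}))).exists_card_eq
      rw [hk]
      exact (by decide : Odd 3).pow
    obtain ⟨e⟩ := S1615.result H.sol hperf2 hD x hx fun h => h3 (hodd.trans h)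
    obtain ⟨n, -, h⟩ := isSym_of_five hD e
    exact Or.inl ⟨n, h⟩
  by_cases h2 : Cfsg.pCore 2 ↥(Subgroup.closure {y : G | y ∈ D ∧ y ≠ x ∧ Commute x y}) ≤
      Subgroup.center ↥(Subgroup.closure {y : G | y ∈ D ∧ y ≠ x ∧ Commute x y})
  swap
  · have P := H80.TTPolar.polar_of_twins H hx h2
    obtain ⟨a, ha⟩ := H.nb_nonempty hx
    have hline : ∀ p ∈ D, ∀ q ∈ nb D p,
        (H80.TTPolar.Ln D p q).ncard = (H80.TTPolar.Ln D x a).ncard :=
      fun p hp q hq => P.ncard_Ln hp hq hx ha
    rcases P.ncard_Ln_cases hx ha with e | e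
    · exact Or.inr (Or.inl (isSymp_of_three P fun p hp q hq => (hline p hp q hq).trans e))
    · obtain ⟨n, -, h⟩ := isUnit_of_five ⟨P, fun p hp q hq => (hline p hp q hq).trans e⟩
      exact Or.inr (Or.inr (Or.inl ⟨n, h⟩))
  have hC : Central D := H7Fischer.central_of_at H hx ⟨h2, h3⟩
  rcases hM H hC (hiff2.1 hprim).2.2 with
    ⟨n, -, h⟩ | (⟨m, -, h⟩ | ⟨m, -, h⟩) | ⟨n, μ, c, -, Q, hQ, -, hc, h⟩ | h
  · exact Or.inl ⟨n, h⟩
  · exact Or.inr (Or.inr (Or.inr (Or.inl (Or.inl ⟨m, h⟩))))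
  · exact Or.inr (Or.inr (Or.inr (Or.inl (Or.inr ⟨m, h⟩))))
  · exact Or.inr (Or.inr (Or.inr (Or.inr (Or.inl ⟨n, Q, hQ, c, hc, h⟩))))
  · exact Or.inr (Or.inr (Or.inr (Or.inr (Or.inr h))))

end Cfsg.Agent.H80.TTFischer
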