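import Cfsg.Agent.H61.M24.Common
import Cfsg.Agent.H7Fischer.Disconnected

/-!
A class with residues of type M(23): two members that do not commute do not have 1080 common
neighbours.  The adjacency operator modulo seven would satisfy an irreducible quadratic equation on
a space of odd dimension.
-/

set_option autoImplicit false
set_option linter.unusedSectionVars false

namespace Cfsg.Agent.H80.TTFischer

open Cfsg
open H76.LocallyS3 (cj cj_cj cj_injective commute_cj_iff)
open H80.TTQuad (Cls cj_inv_cj cj_cj_inv)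
open H93 (common)
open H61.M24 (Data24)

universe u

/-- An operator on a space of odd dimension has no square that is a non-square scalar. -/
theorem not_odd_dim {F : Type*} [Field F] {V : Type*} [AddCommGroup V] [Module F V]
    [FiniteDimensional F V] {r : F} (hr : ¬ IsSquare r) (g : V →ₗ[F] V)
    (hg : g.comp g = r • LinearMap.id) : ¬ Odd (Module.finrank F V) := by
  rintro ⟨m, hm⟩
  have h := congrArg LinearMap.det hg
  rw [LinearMap.det_comp, LinearMap.det_smul, LinearMap.det_id, mul_one, hm] at h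
  have hr0 : r ≠ 0 := fun e => hr (e ▸ IsSquare.zero)
  refine hr ⟨LinearMap.det g * (r ^ m)⁻¹, ?_⟩
  have hm0 : r ^ m ≠ 0 := pow_ne_zero m hr0
  field_simp
  rw [sq (LinearMap.det g), h]
  ring

theorem seven_facts :
    ((31671 : ℕ) : ZMod 7) = 1 + 0 + 2 • (1 : ZMod 7) ∧ ((3510 : ℕ) : ZMod 7) = 0 + 1 + 2 • (1 : ZMod 7) ∧
      ((1080 : ℕ) : ZMod 7) = 0 + 0 + 2 • (1 : ZMod 7) ∧ ∀ t : ZMod 7, (5 : ZMod 7) ≠ t * t := by
  decide

variable {G : Type u} [Group G] [Finite G] {D : Set G}

theorem common_image (H : Cls D) (g : G) (a y : G) :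
    common D (cj g a) (cj g y) = cj g '' common D a y := by
  ext x
  constructor
  · intro hx
    refine ⟨cj g⁻¹ x, ?_, cj_cj_inv g x⟩
    have h1 := H.cj_nb g⁻¹ hx.1
    have h2 := H.cj_nb g⁻¹ hx.2
    rw [cj_inv_cj] at h1 h2
    exact ⟨h1, h2⟩
  · rintro ⟨x, hx, rfl⟩
    exact ⟨H.cj_nb g hx.1, H.cj_nb g hx.2⟩

/-- All pairs of members that do not commute have as many common neighbours. -/
theorem common_card_const (H : Cls D) (hconn : H7Fischer.Conn D) {a y x z : G} (ha : a ∈ D)
    (hy : y ∈ D) (hn : ¬ Commute a y) (hx : x ∈ D) (hz : z ∈ D) (hn' : ¬ Commute x z) :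
    (common D a y).ncard = (common D x z).ncard := by
  obtain ⟨g, rfl⟩ := H.exists_cj hx ha
  obtain ⟨k, hk, hkz⟩ := H7Fischer.exists_cj_far H hconn hx hz
    (f' := cj g⁻¹ y) (H.mem_cj g⁻¹ hy) hn' (fun h => hn (by
      have := (commute_cj_iff (g := g)).2 h
      rwa [cj_cj_inv] at this))
  have hkx : cj k x = x := mul_inv_eq_iff_eq_mul.2 hk
  have e := common_image H (g * k) x z
  rw [← cj_cj, ← cj_cj, hkx, hkz, cj_cj_inv] at e
  rw [e, Set.ncard_image_of_injective _ (cj_injective _)]

/-- There is no such class with 1080 common neighbours for each pair that does not commute. -/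
theorem no_common_1080 (h : Data24 D)
    (hμ : ∀ x ∈ D, ∀ y ∈ D, ¬ Commute x y → (common D x y).ncard = 1080) : False := by
  classical
  haveI := Fintype.ofFinite G
  haveI : Fact (Nat.Prime 7) := ⟨by norm_num⟩
  let V := ↥D
  let R : V → V → Prop := fun p q => (q : G) ∈ H93.nb D (p : G)
  have hR : ∀ p q, R p q → R q p := fun p q hpq => ⟨p.2, fun e => hpq.2.1 e.symm, hpq.2.2.symm⟩
  have key : ∀ (S : Set G) (P : V → Prop) [DecidablePred P], S ⊆ D → (∀ p : V, P p ↔ (p : G) ∈ S) →
      (Finset.univ.filter P).card = S.ncard := by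
    intro S P _ hS hP
    rw [← Set.ncard_coe_finset, ← Set.ncard_image_of_injective _ Subtype.val_injective]
    congr 1
    ext x
    exact ⟨by rintro ⟨p, hp, rfl⟩; exact (hP p).1 (Finset.mem_filter.1 hp).2,
      fun hx => ⟨⟨x, hS hx⟩, Finset.mem_coe.2 (Finset.mem_filter.2
        ⟨Finset.mem_univ _, (hP _).2 hx⟩), rfl⟩⟩
  have hdeg : ∀ p, (Finset.univ.filter fun q => R p q).card = 31671 := fun p =>
    (key (H93.nb D (p : G)) _ (fun _ hx => hx.1) fun _ => Iff.rfl).trans (h.card_nb p.2)
  have hadj : ∀ p q, R p q → (Finset.univ.filter fun w => R p w ∧ R w q).card = 3510 := fun p q hpq => by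
    rw [← h.card_nb_nb p.2 hpq]
    exact key _ _ (fun _ hx => hx.1.1) fun w =>
      ⟨fun hw => ⟨hw.1, hR _ _ hw.2⟩, fun hw => ⟨hw.1, hR _ _ hw.2⟩⟩
  have hnon : ∀ p q, ¬ R p q → p ≠ q →
      (Finset.univ.filter fun w => R p w ∧ R w q).card = 1080 := fun p q hpq hne => by
    rw [← hμ p p.2 q q.2 fun c => hpq ⟨q.2, fun e => hne (Subtype.ext e.symm), c⟩]
    exact key _ _ (fun _ hx => hx.1.1) fun w =>
      ⟨fun hw => ⟨hw.1, hR _ _ hw.2⟩, fun hw => ⟨hw.1, hR _ _ hw.2⟩⟩
  -- the number of members
  obtain ⟨d, hd⟩ := h.nonempty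
  let p₀ : V := ⟨d, hd⟩
  let N := Finset.univ.filter fun q => R p₀ q
  let F := Finset.univ.filter fun q => ¬ R p₀ q ∧ q ≠ p₀
  have hsum : ∑ z ∈ N, (F.filter fun y => R z y).card = ∑ y ∈ F, (N.filter fun z => R z y).card :=
    Finset.sum_card_bipartiteAbove_eq_sum_card_bipartiteBelow R
  have hl : ∀ z ∈ N, (F.filter fun y => R z y).card = 28160 := by
    intro z hz
    have hz' : R p₀ z := (Finset.mem_filter.1 hz).2
    have hsplit : (Finset.univ.filter fun y => R z y) =
        insert p₀ (Finset.univ.filter fun w => R p₀ w ∧ R w z) ∪ F.filter fun y => R z y := by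
      ext y
      simp only [F, Finset.mem_union, Finset.mem_insert, Finset.mem_filter, Finset.mem_univ, true_and]
      constructor
      · intro hy
        by_cases h1 : y = p₀
        · exact Or.inl (Or.inl h1)
        by_cases h2 : R p₀ y
        · exact Or.inl (Or.inr ⟨h2, hR _ _ hy⟩)
        exact Or.inr ⟨⟨h2, h1⟩, hy⟩
      · rintro ((rfl | h') | h')
        exacts [hR _ _ hz', hR _ _ h'.2, h'.2]
    have hdisj : Disjoint (insert p₀ (Finset.univ.filter fun w => R p₀ w ∧ R w z))
        (F.filter fun y => R z y) := by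
      rw [Finset.disjoint_left]
      intro y hy hy'
      simp only [F, Finset.mem_insert, Finset.mem_filter, Finset.mem_univ, true_and] at hy hy'
      rcases hy with h' | h'
      exacts [hy'.1.2 h', hy'.1.1 h'.1]
    have := hdeg z
    rw [hsplit, Finset.card_union_of_disjoint hdisj, Finset.card_insert_of_notMem
      (fun hp => (Finset.mem_filter.1 hp).2.1.2.1 rfl), hadj _ _ hz'] at this
    omega
  have hr : ∀ y ∈ F, (N.filter fun z => R z y).card = 1080 := by
    intro y hy
    have hy' := (Finset.mem_filter.1 hy).2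
    rw [← hnon p₀ y hy'.1 hy'.2.symm, Finset.filter_filter]
  rw [Finset.sum_congr rfl hl, Finset.sum_congr rfl hr, Finset.sum_const, Finset.sum_const,
    hdeg p₀, smul_eq_mul, smul_eq_mul] at hsum
  have hv : Fintype.card V = 857464 := by
    have hdj : Disjoint (insert p₀ N) F := by
      rw [Finset.disjoint_left]
      intro y hy hy'
      simp only [N, F, Finset.mem_insert, Finset.mem_filter, Finset.mem_univ, true_and] at hy hy'
      rcases hy with h' | h'
      exacts [hy'.2 h', hy'.1 h']
    have huniv : (Finset.univ : Finset V) = insert p₀ N ∪ F := by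
      ext y
      simp only [N, F, Finset.mem_union, Finset.mem_insert, Finset.mem_filter, Finset.mem_univ, true_and]
      tauto
    rw [← Finset.card_univ, huniv, Finset.card_union_of_disjoint hdj,
      Finset.card_insert_of_notMem fun hp => (Finset.mem_filter.1 hp).2.2.1 rfl, hdeg p₀]
    omega
  -- the operator
  let A : Matrix V V (ZMod 7) := Matrix.of fun p q => if R p q then 1 else 0
  have hA2 : A * A = 1 + A + 2 • Matrix.of fun _ _ => (1 : ZMod 7) := by
    ext p q
    rw [Matrix.mul_apply]
    simp only [A, Matrix.of_apply, mul_ite, mul_one, mul_zero]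
    rw [Finset.sum_congr rfl fun w _ => (ite_and (R w q) (R p w) (1 : ZMod 7) 0).symm,
      Finset.sum_boole, Finset.filter_congr fun w _ => and_comm (a := R w q) (b := R p w)]
    simp only [Matrix.add_apply, Matrix.smul_apply, Matrix.of_apply, Matrix.one_apply]
    by_cases he : p = q
    · subst he
      rw [if_pos rfl, if_neg fun c => c.2.1 rfl,
        Finset.filter_congr fun w _ => (and_iff_left_of_imp (hR p w) : R p w ∧ R w p ↔ R p w), hdeg p]
      exact seven_facts.1
    · by_cases hc : R p q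
      · rw [if_neg he, if_pos hc, hadj p q hc]; exact seven_facts.2.1
      · rw [if_neg he, if_neg hc, hnon p q hc he]; exact seven_facts.2.2.1
  let σ : (V → ZMod 7) →ₗ[ZMod 7] ZMod 7 := ∑ p : V, LinearMap.proj p
  have hσ : ∀ φ, σ φ = ∑ p, φ p := fun φ => by simp [σ]
  have hpres : ∀ φ ∈ LinearMap.ker σ, A.mulVecLin φ ∈ LinearMap.ker σ := by
    intro φ hφ
    rw [LinearMap.mem_ker, hσ] at hφ ⊢
    simp only [Matrix.mulVecLin_apply, Matrix.mulVec, dotProduct]
    rw [Finset.sum_comm, ← mul_zero ((31671 : ℕ) : ZMod 7), ← hφ, Finset.mul_sum]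
    refine Finset.sum_congr rfl fun q _ => ?_
    rw [← Finset.sum_mul]
    congr 1
    simp only [A, Matrix.of_apply]
    rw [Finset.sum_boole, Finset.filter_congr fun w _ => (⟨hR w q, hR q w⟩ : R w q ↔ R q w), hdeg q]
  let f := A.mulVecLin.restrict hpres
  let g : LinearMap.ker σ →ₗ[ZMod 7] LinearMap.ker σ := (2 : ZMod 7) • f - LinearMap.id
  have hsq : g.comp g = (5 : ZMod 7) • LinearMap.id := by
    refine LinearMap.ext fun φ => Subtype.ext ?_
    have hff : A.mulVec (A.mulVec (φ : V → ZMod 7)) = (φ : V → ZMod 7) + A.mulVec φ := by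
      rw [Matrix.mulVec_mulVec, hA2, Matrix.add_mulVec, Matrix.add_mulVec, Matrix.one_mulVec]
      have h0 : (Matrix.of fun _ _ : V => (1 : ZMod 7)).mulVec (φ : V → ZMod 7) = 0 := funext fun p => by
        have := LinearMap.mem_ker.1 φ.2
        rw [hσ] at this
        simpa [Matrix.mulVec, dotProduct] using this
      rw [Matrix.smul_mulVec, h0, smul_zero, add_zero]
    funext p
    have hp := congrFun hff p
    rw [Matrix.mulVec_mulVec] at hp
    simp [g, f, Matrix.mulVec_sub, Matrix.mulVec_smul]
    simp only [Pi.add_apply] at hp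
    linear_combination (4 : ZMod 7) * hp
  have hsurj : Function.Surjective σ := fun t => ⟨Pi.single p₀ t, by rw [hσ]; simp⟩
  have hdim := LinearMap.finrank_range_add_finrank_ker σ
  rw [LinearMap.range_eq_top.2 hsurj, finrank_top, Module.finrank_self,
    Module.finrank_fintype_fun_eq_card, hv] at hdim
  refine not_odd_dim (F := ZMod 7) (r := 5) ?_ g hsq ⟨428731, by omega⟩
  exact fun ⟨t, ht⟩ => seven_facts.2.2.2 t ht

end Cfsg.Agent.H80.TTFischer
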