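import Cfsg.Agent.H80.TTFischer.Five
import Cfsg.Agent.H80.TTFischer.Four
import Cfsg.Agent.H80.TTFischer.Count
import Cfsg.Agent.H93.Count22
import Cfsg.Agent.Cores.PCore

/-!
The step of Fischer's theorem for residues of unitary type.
-/

set_option autoImplicit false
set_option linter.unusedSectionVars false

namespace Cfsg.Agent.H80.TTFischer

open Cfsg
open H76.LocallyS3 (nb cj cj_cj cj_injective commute_cj_iff)
open H80.TTQuad (Cls B cj_one cj_inv_cj cj_cj_inv cj_eq_of_commute commute_of_cj_eq)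
open Local (Quot image bar)
open H7Thick.Model (tvq cls_tvq hypUnique_tvq)
open H7Fischer (Central CentralAt Conn Triangle IsoTo IsUnit IsOrthThree IsM22' psuTv res resEquiv)

universe u

/-- The step from an orthogonal residue to the whole class. -/
def OrthStep : Prop :=
  ∀ {G : Type u} [Group G] [Finite G] {D : Set G}, Cls D → Central D → Conn D → ¬ Triangle D →
    ∀ {d : G}, d ∈ D → ∀ {n : ℕ}, 5 ≤ n → ∀ {μ c : ZMod 3}, IsOrthThree (H7Fischer.res D d) n μ c →
      IsOrthThree D (n + 1) (-c * μ) c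

variable {G : Type u} [Group G] [Finite G] {D : Set G}

/-- In a connected commuting graph two non-commuting members have a common neighbour. -/
theorem diam_of_conn (H : Cls D) (hconn : Conn D) :
    ∀ a ∈ D, ∀ b ∈ D, ¬ Commute a b → (B D a b).Nonempty := by
  intro a ha b hb
  have step : ∀ (p q : ↥D), (Cfsg.commutingGraph D).Walk p q →
      Commute (p : G) q ∨ (B D (p : G) q).Nonempty := by
    intro p q w
    induction w with
    | nil => exact Or.inl (Commute.refl _)
    | @cons p a' q hadj _ ih =>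
      have hpa : Commute (p : G) a' := by
        rw [Cfsg.commutingGraph, SimpleGraph.fromRel_adj] at hadj
        exact hadj.2.elim id Commute.symm
      by_cases hpq : Commute (p : G) q
      · exact Or.inl hpq
      right
      rcases ih with h | ⟨e, he, hea, heq⟩
      · exact ⟨a', a'.2, hpa.symm, h⟩
      by_cases hpe : Commute (p : G) e
      · exact ⟨e, he, hpe.symm, heq⟩
      by_cases haq : Commute (a' : G) q
      · exact ⟨a', a'.2, hpa.symm, haq⟩
      refine ⟨cj (a' : G) (cj (q : G) (cj (p : G) e)),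
        H.mem_cj _ (H.mem_cj _ (H.mem_cj _ he)), ?_, ?_⟩
      · have h1 : Commute (cj (p : G) e) (cj (q : G) (p : G)) := by
          rw [H.braid q.2 p.2 fun h => hpq h.symm]
          exact commute_cj_iff.2 heq
        have h2 := (commute_cj_iff (g := (q : G))).2 h1
        rw [H.cj_invol q.2] at h2
        have h3 := (commute_cj_iff (g := (a' : G))).2 h2
        rwa [cj_eq_of_commute hpa.symm] at h3
      · have h1 : Commute (cj (p : G) e) (a' : G) := by
          have h0 := (commute_cj_iff (g := (p : G))).2 hea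
          rwa [cj_eq_of_commute hpa] at h0
        have h2 := (commute_cj_iff (g := (q : G))).2 h1
        rw [← H.braid a'.2 q.2 haq] at h2
        have h3 := (commute_cj_iff (g := (a' : G))).2 h2
        rwa [H.cj_invol a'.2] at h3
  intro hab
  obtain ⟨w⟩ := hconn.preconnected ⟨a, ha⟩ ⟨b, hb⟩
  exact (step _ _ w).resolve_left hab

variable {F : Type} [Field F] [Fintype F] {n : ℕ}

/-- A residue of unitary type gives the residue structure at every member. -/
theorem ures_of_res (H : Cls D) (hC : Central D) (hconn : Conn D) {d : G} (hd : d ∈ D)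
    (hR : IsoTo (H7Fischer.res D d) (psuTv n F)) : URes D F n := by
  refine ⟨H, fun x hx => ?_, diam_of_conn H hconn⟩
  obtain ⟨e, he⟩ := hR
  obtain ⟨g, rfl⟩ := H.exists_cj hd hx
  let ψ : ↥(nb D (cj g d)) → ↥(tvq n F) := fun y =>
    ⟨e (H7Fischer.rmk (d := d) (y := cj g⁻¹ y) (by
      have := H.cj_nb g⁻¹ y.2
      rwa [cj_inv_cj] at this)), by
      show _ ∈ psuTv n F
      rw [← he]; exact ⟨_, H7Fischer.rmk_mem _, rfl⟩⟩
  have hψ : Function.Bijective ψ := by
    refine ⟨fun y y' h => ?_, fun q => ?_⟩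
    · exact Subtype.ext (cj_injective g⁻¹
        (H7Fischer.rmk_inj H hC hd _ _ (e.injective (congrArg Subtype.val h))))
    · obtain ⟨z, hz, hzq⟩ : (q : PSU n F 2) ∈ e '' H7Fischer.res D d := by rw [he]; exact q.2
      obtain ⟨y, hy, rfl⟩ := H7Fischer.mem_res.1 hz
      refine ⟨⟨cj g y, H.cj_nb g hy⟩, Subtype.ext ?_⟩
      show e (H7Fischer.rmk _) = _
      rw [← hzq]
      simp only [cj_inv_cj]
  refine ⟨Equiv.ofBijective ψ hψ, fun a b => ?_⟩
  show Commute (e (H7Fischer.rmk _)) (e (H7Fischer.rmk _)) ↔ _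
  rw [H7Fischer.commute_map_iff' e, H7Fischer.commute_rmk H]
  exact commute_cj_iff

namespace URes

variable (U : URes D F n) (hF : Fintype.card F = 2 ^ 2) (hn : 4 ≤ n)
include U hF hn

theorem conn : Conn D := by
  obtain ⟨x, hx⟩ := U.cls.nonempty
  refine { preconnected := ?_, nonempty := ⟨⟨x, hx⟩⟩ }
  intro a b
  have hadj : ∀ p q : ↥D, p ≠ q → Commute (p : G) q → (Cfsg.commutingGraph D).Adj p q :=
    fun p q h h' => by rw [Cfsg.commutingGraph, SimpleGraph.fromRel_adj]; exact ⟨h, Or.inl h'⟩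
  by_cases hab : Commute (a : G) b
  · by_cases e : a = b
    · exact e ▸ SimpleGraph.Reachable.refl a
    · exact (hadj a b e hab).reachable
  obtain ⟨z, hz, hza, hzb⟩ := U.diam a a.2 b b.2 hab
  have n1 : a ≠ (⟨z, hz⟩ : ↥D) := fun e => hab (by rw [e]; exact hzb)
  have n2 : (⟨z, hz⟩ : ↥D) ≠ b := fun e => hab (by rw [← e]; exact hza.symm)
  exact (hadj a ⟨z, hz⟩ n1 hza.symm).reachable.trans (hadj ⟨z, hz⟩ b n2 hzb).reachable

theorem central : Central D := by
  intro d hd
  let M := U.model hF hn hd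
  have key : ∀ (p : ℕ) [Fact p.Prime],
      Cfsg.pCore p ↥(H93.nbSub D d) ≤ Subgroup.center ↥(H93.nbSub D d) := by
    intro p _
    show Cfsg.pCore p ↥(Subgroup.closure (nb D d)) ≤ Subgroup.center ↥(Subgroup.closure (nb D d))
    rw [← M.ker_hom]
    have hP : IsPGroup p (Cfsg.pCore p ↥(Subgroup.closure (nb D d))) := Cores.pCore_isPGroup
    have := hP.isNilpotent
    have : (Cfsg.pCore p ↥(Subgroup.closure (nb D d))).Normal := Cfsg.pCore_normal p _
    refine (Subgroup.map_eq_bot_iff _).1 (M.cls.sol _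
      (Subgroup.Normal.map this _ M.hom_surjective) ?_)
    exact Group.isSolvable_of_surjective (MonoidHom.subgroupMap_surjective _ _)
  have : Fact (Nat.Prime 3) := ⟨Nat.prime_three⟩
  exact ⟨key 2, key 3⟩

/-- The residue with its class is the model. -/
theorem res_iso {d : G} (hd : d ∈ D) : IsoTo (H7Fischer.res D d) (psuTv n F) := by
  have hC := U.central hF hn
  have H := H7Fischer.res_cls U.cls hC hd
  have H' := cls_tvq (F := F) hF hn
  let r := resEquiv U.cls hC hd
  let M := U.model hF hn hd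
  have hφ : ∀ a b, Commute ((r.symm.trans M.φ) a : PSU n F 2) ((r.symm.trans M.φ) b) ↔
      Commute (a : H93.Residue D d) b := by
    intro a b
    obtain ⟨a, rfl⟩ := r.surjective a
    obtain ⟨b, rfl⟩ := r.surjective b
    simp only [Equiv.trans_apply, Equiv.symm_apply_apply]
    rw [M.commute_iff, H7Fischer.resEquiv_apply, H7Fischer.resEquiv_apply,
      H7Fischer.commute_rmk U.cls a.2 b.2]
  exact H7Fischer.isoTo_of_equivariant H.cl.2.2 H'.cl.2.2 (fun g => H.eq_one_of_fix)
    (fun g => H'.eq_one_of_fix) (fun a ha => H.sq ha) (fun a ha => H'.sq ha)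
    (fun a _ b hb => H.mem_cj a hb) (r.symm.trans M.φ)
    (H7Thick.graph_equivariant H H' (hypUnique_tvq hF hn) _ hφ)

/-- A hyperbolic line of the residue breaks the triangle property. -/
theorem not_triangle : ¬ Triangle D := by
  intro hT
  obtain ⟨x, hx⟩ := U.cls.nonempty
  let M := U.model hF hn hx
  have h2 := two_eq_zero hF
  obtain ⟨r, hr0, hr1, hr⟩ := exists_root hF
  have hr3 := H7Thick.Model.cube hF hr0
  let i₀ : Fin n := ⟨0, by omega⟩
  let i₁ : Fin n := ⟨1, by omega⟩
  let i₂ : Fin n := ⟨2, by omega⟩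
  have ne01 : i₀ ≠ i₁ := by simp [i₀, i₁]
  have ne02 : i₀ ≠ i₂ := by simp [i₀, i₂]
  have ne12 : i₁ ≠ i₂ := by simp [i₁, i₂]
  have hs : ∀ (i j : Fin n) (a b : F),
      hermForm n F 2 (Pi.single i a) (Pi.single j b) = if i = j then a * b ^ 2 else 0 := by
    intro i j a b
    rw [Unitary.herm_single_left]
    by_cases h : i = j
    · simp [h]
    · simp [h]
  let u : Fin n → F := Pi.single i₀ 1 + Pi.single i₁ 1
  let v : Fin n → F := Pi.single i₁ 1 + Pi.single i₂ r
  let w : Fin n → F := Pi.single i₀ 1 + Pi.single i₂ 1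
  have val : ∀ {p q : Fin n → F} {a₀ a₁ a₂ b₀ b₁ b₂ : F},
      p = Pi.single i₀ a₀ + Pi.single i₁ a₁ + Pi.single i₂ a₂ →
      q = Pi.single i₀ b₀ + Pi.single i₁ b₁ + Pi.single i₂ b₂ →
      hermForm n F 2 p q = a₀ * b₀ ^ 2 + a₁ * b₁ ^ 2 + a₂ * b₂ ^ 2 := by
    rintro p q a₀ a₁ a₂ b₀ b₁ b₂ rfl rfl
    simp [Unitary.herm_add_left, Unitary.herm_add_right hF, hs, ne01, ne02, ne12, ne01.symm,
      ne02.symm, ne12.symm]
  have eu : u = Pi.single i₀ 1 + Pi.single i₁ 1 + Pi.single i₂ 0 := by simp [u]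
  have ev : v = Pi.single i₀ 0 + Pi.single i₁ 1 + Pi.single i₂ r := by simp [v]
  have ew : w = Pi.single i₀ 1 + Pi.single i₁ 0 + Pi.single i₂ 1 := by simp [w]
  have huu : hermForm n F 2 u u = 0 := by rw [val eu eu]; linear_combination h2
  have hvv : hermForm n F 2 v v = 0 := by rw [val ev ev]; linear_combination hr3 + h2
  have hww : hermForm n F 2 w w = 0 := by rw [val ew ew]; linear_combination h2
  have hvu : hermForm n F 2 v u = 1 := by rw [val ev eu]; ring
  have hu0 : u ≠ 0 := fun h => by rw [h, Unitary.herm_zero_right hF] at hvu; exact zero_ne_one hvu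
  have hv0 : v ≠ 0 := fun h => by rw [h, Unitary.herm_zero_left] at hvu; exact zero_ne_one hvu
  have hwu : hermForm n F 2 w u = 1 := by rw [val ew eu]; ring
  have hw0 : w ≠ 0 := fun h => by rw [h, Unitary.herm_zero_left] at hwu; exact zero_ne_one hwu
  have hn3 : 3 ≤ n := by omega
  obtain ⟨a, ha⟩ := M.φ.surjective ⟨_, H7Thick.Model.pt_mem hF huu hu0⟩
  obtain ⟨b, hb⟩ := M.φ.surjective ⟨_, H7Thick.Model.pt_mem hF hvv hv0⟩
  obtain ⟨c, hc⟩ := M.φ.surjective ⟨_, H7Thick.Model.pt_mem hF hww hw0⟩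
  have ea := congrArg Subtype.val ha
  have eb := congrArg Subtype.val hb
  have ec := congrArg Subtype.val hc
  simp only at ea eb ec
  have hab : ¬ Commute (a : G) b := fun h => by
    have h' := (M.commute_iff a b).2 h
    rw [ea, eb, H7Thick.Model.commute_pt hF hn3] at h'
    exact one_ne_zero (hvu.symm.trans ((Unitary.herm_eq_zero_symm hF).1 h'))
  have hca : ¬ Commute (c : G) a := fun h => by
    have h' := (M.commute_iff c a).2 h
    rw [ec, ea, H7Thick.Model.commute_pt hF hn3, hwu] at h'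
    exact one_ne_zero h'
  have hcb : ¬ Commute (c : G) b := fun h => by
    have h' := (M.commute_iff c b).2 h
    rw [ec, eb, H7Thick.Model.commute_pt hF hn3, val ew ev] at h'
    exact hr0 (pow_eq_zero_iff two_ne_zero |>.1 (by linear_combination h'))
  have h := (hT a a.2.1 b b.2.1 hab c c.2.1).2 ⟨fun q => absurd q hca, fun q => absurd q hcb⟩
  have h' := (M.commute_iff c ⟨_, M.closed a a.2 b b.2⟩).2 h
  rw [M.equivariant a b, ec, ea, eb,
    H7Thick.Model.cj_pt hF huu hvv (H7Thick.Model.iso_add_cj hF huu hvv),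
    H7Thick.Model.commute_pt hF hn3, hvu, one_smul, Unitary.herm_add_right hF, hwu,
    val ew ev] at h'
  exact hr0 (show r = 0 by linear_combination h' - hr - h2)

end URes

/-- The orthogonal step applied to a residue of type `U_4(2)`. -/
theorem URes.four_orth (hO : OrthStep.{u}) (U : URes D F 4) (hF : Fintype.card F = 2 ^ 2) :
    ∃ c, IsOrthThree D 6 1 c := by
  obtain ⟨d, hd⟩ := U.cls.nonempty
  have hR : IsUnit (H7Fischer.res D d) 4 :=
    ⟨F, inferInstance, inferInstance, hF.trans (by norm_num), U.res_iso hF le_rfl hd⟩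
  obtain ⟨c, hc⟩ := unit_four_orth hR
  obtain ⟨Q, h1, h2, h3, h4⟩ := hO U.cls (U.central hF le_rfl) (U.conn hF le_rfl)
    (U.not_triangle hF le_rfl) hd (le_refl 5) hc
  refine ⟨c, Q, h1, h2.trans ?_, h3, h4⟩
  exact (show ∀ x : ZMod 3, x ≠ 0 → -x * -x = 1 by decide) c h3

/-- The class of a common set, read in the group generated by any equal set. -/
theorem transfer_image {S S' : Set G} (h : S = S') {k : ℕ} {μ c : ZMod 3}
    (hI : IsOrthThree (image S) k μ c) :
    IsOrthThree ((QuotientGroup.mk : ↥(Subgroup.closure S') →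
      ↥(Subgroup.closure S') ⧸ Subgroup.center ↥(Subgroup.closure S')) ''
        {x : ↥(Subgroup.closure S') | (x : G) ∈ S'}) k μ c := by
  subst h; exact hI

theorem URes.six (hO : OrthStep.{u}) (U : URes D F 6) (hF : Fintype.card F = 2 ^ 2) : IsM22' D := by
  have hall : ∀ d ∈ D, ∀ c ∈ D, ¬ Commute d c → ∃ c₃, IsOrthThree (H7Fischer.tres D d c) 6 1 c₃ := by
    intro d hd c hc hdc
    obtain ⟨c₃, h⟩ := (U.descend hF le_rfl hd hc hdc (U.diam d hd c hc hdc)).four_orth hO hF
    have e : B D d c = nb D d ∩ nb D c := by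
      ext y
      constructor
      · rintro ⟨h1, h2, h3⟩
        exact ⟨⟨h1, fun q => hdc (q ▸ h3), h2.symm⟩, ⟨h1, fun q => hdc (q ▸ h2).symm, h3.symm⟩⟩
      · rintro ⟨⟨h1, -, h2⟩, -, -, h3⟩
        exact ⟨h1, h2.symm, h3.symm⟩
    exact ⟨c₃, transfer_image e h⟩
  refine ⟨⟨U.cls.center_eq_bot, ?_⟩, U.conn hF (by norm_num), hall⟩
  obtain ⟨d, hd⟩ := U.cls.nonempty
  obtain ⟨c, hc, hdc⟩ := U.cls.exists_noncommute hd
  obtain ⟨c₃, Q, h1, h2, h3, e, -⟩ := hall d hd c hc hdc
  refine ⟨d, hd, c, hc, hdc, ⟨F, inferInstance, inferInstance, hF.trans (by norm_num), ?_⟩,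
    c₃, h3, Q, h1, h2, ⟨e⟩⟩
  exact (U.model hF (by norm_num) hd).nonempty_equiv

/-- The size of a class with residues `U_6(2)`. -/
theorem URes.ncard_six (hO : OrthStep.{u}) (U : URes D F 6) (hF : Fintype.card F = 2 ^ 2) :
    D.ncard = 3510 := by
  obtain ⟨x, hx⟩ := U.cls.nonempty
  obtain ⟨K, iK, iKf, h⟩ := H93.geo22 U.cls.cl (U.six hO hF).1
  exact h.card_members hx

/-- No class has all residues the class of `U_8(2)`. -/
theorem URes.not_eight (hO : OrthStep.{u}) (U : URes D F 8) (hF : Fintype.card F = 2 ^ 2) : False := by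
  obtain ⟨x, hx⟩ := U.cls.nonempty
  have hc : ∀ f ∈ D, ¬ Commute x f → (B D x f).ncard = 3510 := by
    intro f hf hxf
    have L := U.local_B hF (by norm_num) hx hf hxf (U.diam x hx f hf hxf)
    rw [← (U.descend hF (by norm_num) hx hf hxf (U.diam x hx f hf hxf)).ncard_six hO hF,
      ← Nat.card_coe_set_eq, ← Nat.card_coe_set_eq]
    refine Nat.card_eq_of_bijective (fun t => ⟨bar t, L.bar_mem t⟩)
      ⟨fun a b h => L.bar_injective (congrArg Subtype.val h), ?_⟩
    rintro ⟨_, ⟨⟨t, ht'⟩, ht, rfl⟩⟩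
    exact ⟨⟨t, ht⟩, rfl⟩
  obtain ⟨k, hk⟩ := U.double_count hF (m := 6) rfl (by norm_num) hx hc
  have h3 : (tvq 8 F).ncard * 3 = 32895 := by
    rw [ncard_tvq hF (by norm_num)]
    decide +kernel
  omega

/-- Residues of unitary type lead to the fourth or the sixth degree. -/
theorem unitary_cases (hO : OrthStep.{u}) (hF : Fintype.card F = 2 ^ 2) :
    ∀ (n : ℕ) {G : Type u} [Group G] [Finite G] {D : Set G}, 4 ≤ n → URes D F n → n = 4 ∨ n = 6 := by
  intro n
  induction n using Nat.strong_induction_on with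
  | _ n ih =>
    intro G _ _ D hn U
    rcases Nat.lt_or_ge n 6 with h | h
    · rcases (show n = 4 ∨ n = 5 by omega) with rfl | rfl
      · exact Or.inl rfl
      · exact (U.not_five hF).elim
    obtain ⟨x, hx⟩ := U.cls.nonempty
    obtain ⟨f, hf, hxf⟩ := U.cls.exists_noncommute hx
    have U' := U.descend hF h hx hf hxf (U.diam x hx f hf hxf)
    rcases ih (n - 2) (by omega) (by omega) U' with e | e
    · exact Or.inr (by omega)
    · obtain rfl : n = 8 := by omega
      exact (U.not_eight hO hF).elim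

/-- **Residue `U_n(2)`**: only `n = 6`, and the class is of type M(22). -/
theorem unitary_step_of (hO : OrthStep.{u}) (H : Cls D) (hC : Central D) (hconn : Conn D)
    (_hnT : ¬ Triangle D) {d : G} (hd : d ∈ D) {n : ℕ} (hn : 5 ≤ n)
    (hR : IsUnit (H7Fischer.res D d) n) : n = 6 ∧ IsM22' D := by
  obtain ⟨K, iK, iKf, hK, he⟩ := hR
  have hF : Fintype.card K = 2 ^ 2 := hK.trans (by norm_num)
  have U := ures_of_res H hC hconn hd he
  rcases unitary_cases hO hF n (by omega) U with rfl | rfl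
  · omega
  · exact ⟨rfl, U.six hO hF⟩

end Cfsg.Agent.H80.TTFischer
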