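import Cfsg.Agent.H80.TTFischer.Graph
import Cfsg.Agent.H80.TTFischer.Chain

/-!
Classes of 3-transpositions whose residues are unitary classes: the members commuting with two
non-commuting ones form a class with residues in two dimensions less.
-/

set_option autoImplicit false
set_option linter.unusedSectionVars false

namespace Cfsg.Agent.H80.TTFischer

open Cfsg
open H76.LocallyS3 (nb cj cj_cj cj_injective commute_cj_iff)
open H80.TTQuad (Cls B cj_one cj_inv_cj cj_cj_inv cj_eq_of_commute commute_of_cj_eq)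
open Local (Quot image bar)
open H7Thick.Model (tvq cls_tvq hypUnique_tvq exists_residue_equiv)

universe u

/-- Every residue of the connected class `D` is the class of `U_n(2)`. -/
structure URes {G : Type u} [Group G] (D : Set G) (F : Type) [Field F] (n : ℕ) : Prop where
  cls : Cls D
  res : ∀ x ∈ D, ∃ φ : ↥(nb D x) ≃ ↥(tvq n F),
    ∀ a b, Commute (φ a : PSU n F 2) (φ b) ↔ Commute (a : G) b
  diam : ∀ a ∈ D, ∀ b ∈ D, ¬ Commute a b → (B D a b).Nonempty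

variable {G : Type u} [Group G] {D : Set G} {F : Type} [Field F] [Fintype F] {n : ℕ}

section Model

variable (hF : Fintype.card F = 2 ^ 2)
include hF

theorem nb_tvq_nonempty (hn : 4 ≤ n) {p : PSU n F 2} (hp : p ∈ tvq n F) :
    (nb (tvq n F) p).Nonempty := by
  have H := cls_tvq (F := F) hF hn
  obtain ⟨a, ha, b, hb, c, hc, d, hd, hch⟩ := exists_chain hF hn
  have hac : a ≠ c := fun e => hch.cd (e ▸ hch.ad)
  obtain ⟨g, hg⟩ := H.exists_cj ha hp
  exact ⟨cj g c, hg ▸ H.cj_nb g ⟨hc, hac.symm, hch.ac⟩⟩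

/-- The residue of a member as a graph model. -/
noncomputable def URes.model (U : URes D F n) (hn : 4 ≤ n) {x : G} (hx : x ∈ D) :
    GraphModel (nb D x) (tvq n F) where
  tt := ⟨fun a ha => U.cls.cl.1.1 a ha.1, fun a ha b hb => U.cls.cl.1.2 a ha.1 b hb.1⟩
  closed _ ha _ hb := U.cls.cj_mem_nb ha.2.2.symm hb
  cls := cls_tvq hF hn
  hyp := hypUnique_tvq hF hn
  φ := Classical.choose (U.res x hx)
  commute_iff := Classical.choose_spec (U.res x hx)

/-- The residue of a member of `B D x f` inside `B D x f`. -/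
theorem URes.exists_local (U : URes D F n) (hn : 4 ≤ n) {m : ℕ} (hm : n = m + 2) (hm3 : 3 ≤ m)
    {x f t : G} (hx : x ∈ D) (hf : f ∈ D) (hxf : ¬ Commute x f) (ht : t ∈ B D x f) :
    ∃ φ : ↥(nb (B D x f) t) ≃ ↥(tvq m F),
      ∀ a b, Commute (φ a : PSU m F 2) (φ b) ↔ Commute (a : G) b := by
  let M := U.model hF hn ht.1
  have hx' : x ∈ nb D t := ⟨hx, fun e => hxf (e ▸ ht.2.2), ht.2.1⟩
  have hf' : f ∈ nb D t := ⟨hf, fun e => hxf (e ▸ ht.2.1.symm), ht.2.2⟩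
  obtain ⟨e, he⟩ := exists_residue_equiv hF hm hm3 (M.φ ⟨x, hx'⟩).2 (M.φ ⟨f, hf'⟩).2
    (fun h => hxf ((M.commute_iff _ _).1 h))
  let ψ : ↥(nb (B D x f) t) → ↥{d : PSU n F 2 | d ∈ tvq n F ∧ Commute d (M.φ ⟨x, hx'⟩ : PSU n F 2) ∧
      Commute d (M.φ ⟨f, hf'⟩ : PSU n F 2)} := fun a =>
    ⟨M.φ ⟨a, a.2.1.1, a.2.2⟩, (M.φ ⟨a, a.2.1.1, a.2.2⟩).2,
      (M.commute_iff _ ⟨x, hx'⟩).2 a.2.1.2.1, (M.commute_iff _ ⟨f, hf'⟩).2 a.2.1.2.2⟩
  have hψ : Function.Bijective ψ := by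
    refine ⟨fun a b h => ?_, fun d => ?_⟩
    · have h' := M.φ.injective (Subtype.ext (congrArg (fun z : ↥{d : PSU n F 2 | d ∈ tvq n F ∧ Commute d (M.φ ⟨x, hx'⟩ : PSU n F 2) ∧
        Commute d (M.φ ⟨f, hf'⟩ : PSU n F 2)} => (z : PSU n F 2)) h))
      exact Subtype.ext (congrArg (fun z : ↥(nb D t) => (z : G)) h')
    · obtain ⟨a, ha⟩ := M.φ.surjective ⟨d, d.2.1⟩
      have ea : (M.φ a : PSU n F 2) = d := congrArg Subtype.val ha
      refine ⟨⟨a, ⟨a.2.1, (M.commute_iff a ⟨x, hx'⟩).1 (by rw [ea]; exact d.2.2.1),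
        (M.commute_iff a ⟨f, hf'⟩).1 (by rw [ea]; exact d.2.2.2)⟩, a.2.2⟩, Subtype.ext ?_⟩
      exact ea
  refine ⟨(Equiv.ofBijective ψ hψ).trans e.symm, fun a b => ?_⟩
  rw [← he]
  simp only [Equiv.trans_apply, Equiv.apply_symm_apply]
  exact M.commute_iff _ _

end Model

namespace URes

variable (U : URes D F n) (hF : Fintype.card F = 2 ^ 2) (hn : 6 ≤ n) {x f : G} (hx : x ∈ D)
  (hf : f ∈ D) (hxf : ¬ Commute x f)
include U hF hn hx hf hxf

/-- The residue of a member inside `B D x f` as a graph model. -/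
noncomputable def localModel {t : G} (ht : t ∈ B D x f) :
    GraphModel (nb (B D x f) t) (tvq (n - 2) F) where
  tt := ⟨fun a ha => U.cls.cl.1.1 a ha.1.1, fun a ha b hb => U.cls.cl.1.2 a ha.1.1 b hb.1.1⟩
  closed a ha b hb := by
    refine ⟨⟨U.cls.mem_cj a hb.1.1, ?_, ?_⟩, (U.cls.cj_mem_nb ha.2.2.symm
      (⟨hb.1.1, hb.2⟩ : b ∈ nb D t)).2⟩
    · rw [← cj_eq_of_commute ha.1.2.1]
      exact commute_cj_iff.2 hb.1.2.1
    · rw [← cj_eq_of_commute ha.1.2.2]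
      exact commute_cj_iff.2 hb.1.2.2
  cls := cls_tvq hF (by omega)
  hyp := hypUnique_tvq hF (by omega)
  φ := Classical.choose (U.exists_local hF (by omega) (m := n - 2) (by omega) (by omega) hx hf hxf ht)
  commute_iff := Classical.choose_spec
    (U.exists_local hF (by omega) (m := n - 2) (by omega) (by omega) hx hf hxf ht)

theorem closed_B {a b : G} (ha : a ∈ B D x f) (hb : b ∈ B D x f) : cj a b ∈ B D x f := by
  refine ⟨U.cls.mem_cj a hb.1, ?_, ?_⟩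
  · rw [← cj_eq_of_commute ha.2.1]
    exact commute_cj_iff.2 hb.2.1
  · rw [← cj_eq_of_commute ha.2.2]
    exact commute_cj_iff.2 hb.2.2

theorem triangle {a b : G} (ha : a ∈ B D x f) (hb : b ∈ nb (B D x f) a) :
    ∃ t ∈ B D x f, a ∈ nb (B D x f) t ∧ b ∈ nb (B D x f) t := by
  let M := U.localModel hF hn hx hf hxf ha
  obtain ⟨c, hc⟩ := nb_tvq_nonempty (n := n - 2) hF (by omega) (M.φ ⟨b, hb⟩).2
  obtain ⟨t, ht⟩ := M.φ.surjective ⟨c, hc.1⟩
  have et : (M.φ t : PSU (n - 2) F 2) = c := congrArg Subtype.val ht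
  refine ⟨t, t.2.1, ⟨ha, t.2.2.1.symm, t.2.2.2.symm⟩, hb.1, fun e => hc.2.1 ?_, ?_⟩
  · rw [← et]
    exact congrArg Subtype.val (congrArg M.φ (Subtype.ext e.symm))
  · refine (M.commute_iff t ⟨b, hb⟩).1 ?_
    rw [et]
    exact hc.2.2.symm

theorem local_B (hne : (B D x f).Nonempty) : Local (B D x f) where
  tt := ⟨fun a ha => U.cls.cl.1.1 a ha.1, fun a ha b hb => U.cls.cl.1.2 a ha.1 b hb.1⟩
  nonempty := hne
  closed _ ha _ hb := U.closed_B hF hn hx hf hxf ha hb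
  conj a ha b hb := by
    by_cases hab : Commute a b
    · by_cases he : a = b
      · exact ⟨1, one_mem _, by rw [cj_one, he]⟩
      obtain ⟨t, ht, hat, hbt⟩ := U.triangle hF hn hx hf hxf ha ⟨hb, Ne.symm he, hab⟩
      obtain ⟨g, hg, hgab⟩ := (U.localModel hF hn hx hf hxf ht).conj ⟨a, hat⟩ ⟨b, hbt⟩
      exact ⟨g, Subgroup.closure_mono (fun z hz => hz.1) hg, hgab⟩
    · refine ⟨a * b, mul_mem (Subgroup.subset_closure ha) (Subgroup.subset_closure hb), ?_⟩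
      rw [← cj_cj, ← U.cls.braid ha.1 hb.1 hab, U.cls.cj_invol ha.1]
  reduced t ht := (U.localModel hF hn hx hf hxf ht).reduced
  has_nb t ht := by
    let M := U.localModel hF hn hx hf hxf ht
    obtain ⟨p, hp⟩ := (cls_tvq (F := F) (n := n - 2) hF (by omega)).nonempty
    exact ⟨_, (M.φ.symm ⟨p, hp⟩).2⟩
  triangle _ ha _ hb := U.triangle hF hn hx hf hxf ha hb

/-- Two non-commuting members of `B D x f` have a common neighbour there. -/
theorem diam_B {a b : G} (ha : a ∈ B D x f) (hb : b ∈ B D x f) :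
    (B (B D x f) a b).Nonempty := by
  by_contra hne
  have hnc : ∀ z, z ∈ nb (B D x f) a → ¬ Commute z b := fun z hz h =>
    hne ⟨z, hz.1, hz.2.2.symm, h⟩
  let M := U.localModel hF hn hx hf hxf ha
  let X := U.model hF (by omega) hx
  have hnb : ∀ z, z ∈ B D x f → z ∈ nb D x := fun z hz =>
    ⟨hz.1, fun e => hxf (e ▸ hz.2.2), hz.2.1.symm⟩
  obtain ⟨p₁, h₁, p₂, h₂, p₃, h₃, p₄, h₄, hch⟩ := exists_chain (n := n - 2) hF (by omega)
  let c : ∀ p ∈ tvq (n - 2) F, ↥(nb (B D x f) a) := fun p hp => M.φ.symm ⟨p, hp⟩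
  have ec : ∀ p (hp : p ∈ tvq (n - 2) F), (M.φ (c p hp) : PSU (n - 2) F 2) = p := fun p hp =>
    congrArg Subtype.val (M.φ.apply_symm_apply ⟨p, hp⟩)
  let r : ↥(nb (B D x f) a) → ↥(tvq n F) := fun z => X.φ ⟨z, hnb z z.2.1⟩
  have hr : ∀ y z : ↥(nb (B D x f) a),
      Commute (r y : PSU n F 2) (r z) ↔ Commute (y : G) z := fun y z => X.commute_iff _ _
  have hrM : ∀ y z : ↥(nb (B D x f) a),
      Commute (r y : PSU n F 2) (r z) ↔ Commute (M.φ y : PSU (n - 2) F 2) (M.φ z) := fun y z =>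
    (hr y z).trans (M.commute_iff y z).symm
  have hcj : ∀ y z : ↥(nb (B D x f) a),
      (r ⟨cj (y : G) z, M.closed y y.2 z z.2⟩ : PSU n F 2) = cj (r y : PSU n F 2) (r z) :=
    fun y z => X.equivariant ⟨y, hnb y y.2.1⟩ ⟨z, hnb z z.2.1⟩
  have hq : ∀ z : ↥(nb (B D x f) a),
      ¬ Commute (r z : PSU n F 2) (X.φ ⟨b, hnb b hb⟩) := fun z h =>
    hnc z z.2 ((X.commute_iff _ _).1 h)
  have hchain : Chain (r (c p₁ h₁) : PSU n F 2) (r (c p₂ h₂)) (r (c p₃ h₃)) (r (c p₄ h₄)) := by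
    obtain ⟨k1, k2, k3, k4, k5, k6⟩ := hch
    constructor <;> simp only [hrM, ec] <;> assumption
  have h := chain_perp hF (by omega) (X.φ ⟨b, hnb b hb⟩).2 (r (c p₁ h₁)).2 (r (c p₂ h₂)).2
    (r (c p₃ h₃)).2 (r (c p₄ h₄)).2 hchain
  simp only [← hcj] at h
  rcases h with h | h | h | h | h | h | h | h | h | h <;> exact hq _ h

/-- `B D x f` gives a class with residues in two dimensions less. -/
theorem descend (hne : (B D x f).Nonempty) : URes (image (B D x f)) F (n - 2) := by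
  have L := U.local_B hF hn hx hf hxf hne
  refine ⟨L.cls_image, ?_, ?_⟩
  · rintro _ ⟨⟨t, htL⟩, ht, rfl⟩
    let T := B D x f
    let β : ↥(nb T t) → ↥(nb (image T) (bar ⟨t, ht⟩)) := fun a =>
      ⟨bar ⟨a, a.2.1⟩, L.bar_mem _,
        fun e => a.2.2.1 (congrArg Subtype.val (L.bar_injective e)),
        (L.commute_bar ⟨t, ht⟩ ⟨a, a.2.1⟩).2 a.2.2.2⟩
    have hβ : Function.Bijective β := by
      refine ⟨fun a b h => Subtype.ext ?_, fun q => ?_⟩
      · exact congrArg (fun z : ↥T => (z : G)) (L.bar_injective (congrArg Subtype.val h))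
      · obtain ⟨⟨⟨a, _⟩, ha, e⟩, hne', hc⟩ := q.2
        have e' : bar ⟨a, ha⟩ = (q : Quot T) := e
        refine ⟨⟨a, ha, fun h => hne' ?_, (L.commute_bar ⟨t, ht⟩ ⟨a, ha⟩).1 (by rw [e']; exact hc)⟩,
          Subtype.ext e'⟩
        rw [← e']
        exact congrArg bar (Subtype.ext h)
    refine ⟨(Equiv.ofBijective β hβ).symm.trans (U.localModel hF hn hx hf hxf ht).φ, fun a b => ?_⟩
    obtain ⟨a, rfl⟩ := (Equiv.ofBijective β hβ).surjective a
    obtain ⟨b, rfl⟩ := (Equiv.ofBijective β hβ).surjective b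
    show Commute ((U.localModel hF hn hx hf hxf ht).φ
        ((Equiv.ofBijective β hβ).symm (Equiv.ofBijective β hβ a)) : PSU (n - 2) F 2)
      ((U.localModel hF hn hx hf hxf ht).φ
        ((Equiv.ofBijective β hβ).symm (Equiv.ofBijective β hβ b))) ↔
      Commute (bar (⟨(a : G), a.2.1⟩ : ↥T)) (bar (⟨(b : G), b.2.1⟩ : ↥T))
    rw [Equiv.symm_apply_apply, Equiv.symm_apply_apply,
      (U.localModel hF hn hx hf hxf ht).commute_iff]
    exact (L.commute_bar ⟨(a : G), a.2.1⟩ ⟨(b : G), b.2.1⟩).symm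
  · rintro _ ⟨⟨a, _⟩, ha, rfl⟩ _ ⟨⟨b, _⟩, hb, rfl⟩ -
    obtain ⟨z, hz, hza, hzb⟩ := U.diam_B hF hn hx hf hxf ha hb
    exact ⟨bar ⟨z, hz⟩, L.bar_mem _, (L.commute_bar ⟨z, hz⟩ ⟨a, ha⟩).2 hza,
      (L.commute_bar ⟨z, hz⟩ ⟨b, hb⟩).2 hzb⟩

end URes

end Cfsg.Agent.H80.TTFischer
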